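import Cfsg.Agent.Lib.McLRec.Model

/-!
A bound for the automorphisms of the graph.
-/

set_option autoImplicit false
set_option maxRecDepth 30000

namespace CfsgLib.McLRec

open Cfsg CfsgLib.CosetEnum MulAction

attribute [local irreducible] rows basePts

/-- the automorphisms fixing the base point and some points -/
def Fx (bs : List ℕ) : Subgroup (Equiv.Perm Pt) where
  carrier := {g | g ∈ AutR ∧ g p0 = p0 ∧ ∀ b : Pt, (b : ℕ) ∈ bs → g b = b}
  one_mem' := ⟨one_mem _, rfl, fun _ _ => rfl⟩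
  mul_mem' := fun {g h} ⟨a, b, c⟩ ⟨a', b', c'⟩ => ⟨mul_mem a a', by rw [Equiv.Perm.mul_apply, b', b],
    fun x hx => by rw [Equiv.Perm.mul_apply, c' x hx, c x hx]⟩
  inv_mem' := fun {g} ⟨a, b, c⟩ => ⟨inv_mem a, Equiv.Perm.inv_eq_iff_eq.mpr b.symm,
    fun x hx => Equiv.Perm.inv_eq_iff_eq.mpr (c x hx).symm⟩

theorem mem_Fx {bs : List ℕ} {g : Equiv.Perm Pt} :
    g ∈ Fx bs ↔ g ∈ AutR ∧ g p0 = p0 ∧ ∀ b : Pt, (b : ℕ) ∈ bs → g b = b := Iff.rfl

theorem aut_Bs {g : Equiv.Perm Pt} (hg : g ∈ AutR) (h0 : g p0 = p0) {x : Pt} : g x ∈ Bs ↔ x ∈ Bs := by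
  rw [mem_Bs, mem_Bs]
  conv_lhs => rw [← h0]
  exact hg p0 x

theorem cell_mem {bs : List ℕ} (hbs : ∀ b ∈ bs, nearB b = true) {g : Equiv.Perm Pt} (hg : g ∈ Fx bs) {t : Pt}
    (ht : t ∈ Bs) (hne : (t : ℕ) ∉ bs) : cellB bs t (g t : ℕ) = true := by
  obtain ⟨ha, h0, hfix⟩ := mem_Fx.1 hg
  rw [cellB, band_eq_true, List.all_eq_true]
  refine ⟨mem_Bs'.1 ((aut_Bs ha h0).2 ht), fun b hb => ?_⟩
  have hb' : b < 275 := by have := (nearB_iff.1 (hbs b hb)).2; omega
  have e : g ⟨b, hb'⟩ = ⟨b, hb'⟩ := hfix ⟨b, hb'⟩ hb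
  simp only [Bool.and_eq_true, Bool.not_eq_true', beq_iff_eq]
  refine ⟨?_, ?_⟩
  · rw [Bool.eq_false_iff]
    intro h
    have h' : g ⟨b, hb'⟩ = g t := e.trans (Fin.ext (Nat.eq_of_beq_eq_true h))
    exact hne (by rw [← congrArg Fin.val (g.injective h')]; exact hb)
  · rw [Bool.eq_iff_iff]
    have := ha ⟨b, hb'⟩ t
    rw [e] at this
    exact this

theorem eq_one_of_fix {g : Equiv.Perm Pt} (hg : g ∈ AutR) (h0 : g p0 = p0) (hB : ∀ x ∈ Bs, g x = x) : g = 1 := by
  refine Equiv.ext fun x => ?_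
  rcases pt_cases x with rfl | hx | hx
  · exact h0
  · exact hB x hx
  · refine nc_inj ?_ hx fun z hz => ?_
    · rw [mem_Cs, ← mem_Bs, aut_Bs hg h0, mem_Bs] at *
      refine ⟨fun e => (mem_Cs.1 (mem_Cs.2 hx)).1 (g.injective (e.trans h0.symm)), hx.2⟩
    · have := hg x z
      rwa [hB z hz] at this

theorem card_step (bs : List ℕ) (b : Pt) :
    Nat.card ↥(Fx bs) = (orbit ↥(Fx bs) b).ncard * Nat.card ↥(Fx ((b : ℕ) :: bs)) := by
  rw [← index_stabilizer, ← (stabilizer ↥(Fx bs) b).card_mul_index, mul_comm]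
  congr 1
  refine Nat.card_congr
    { toFun := fun g => ⟨g.1.1, g.1.2.1, g.1.2.2.1, fun x hx => ?_⟩
      invFun := fun g => ⟨⟨g.1, g.2.1, g.2.2.1, fun x hx => g.2.2.2 x (List.mem_cons_of_mem _ hx)⟩, ?_⟩
      left_inv := fun _ => rfl
      right_inv := fun _ => rfl }
  · rcases List.mem_cons.1 hx with h | h
    · rw [Fin.ext h]; exact g.2
    · exact g.1.2.2.2 x h
  · exact g.2.2.2 b List.mem_cons_self

theorem card_Fx_le : ∀ (r bs : List ℕ), (∀ b ∈ bs, nearB b = true) → (∀ b ∈ r, nearB b = true) →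
    (r.reverse ++ bs).Nodup → r.reverse ++ bs = basePts.reverse →
    Nat.card ↥(Fx bs) ≤ baseBound bs r
  | [], bs, hbs, _, _, heq => by
    simp only [List.reverse_nil, List.nil_append] at heq
    have : Fx bs = ⊥ := by
      refine (Subgroup.eq_bot_iff_forall _).2 fun g hg => ?_
      obtain ⟨ha, h0, hfix⟩ := mem_Fx.1 hg
      refine eq_one_of_fix ha h0 fun t ht => ?_
      by_cases hmem : (t : ℕ) ∈ bs
      · exact hfix t hmem
      have hb := base_chk
      simp only [baseOK, Bool.and_eq_true, List.all_eq_true, List.mem_range, Bool.or_eq_true,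
        Nat.beq_eq, Bool.not_eq_true'] at hb
      rcases hb.2 t t.2 with (h | h) | h
      · rw [mem_Bs'.1 ht] at h; exact absurd h Bool.noConfusion
      · rw [List.any_eq_true] at h
        obtain ⟨b, hb', e⟩ := h
        exact absurd (by rw [Nat.eq_of_beq_eq_true e, heq, List.mem_reverse]; exact hb') hmem
      · rw [← heq, ← card_filter_cnt (cellB bs t)] at h
        obtain ⟨y, hy⟩ := Finset.card_eq_one.1 h
        have h1 : g t ∈ Finset.univ.filter fun y : Pt => cellB bs t y = true :=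
          Finset.mem_filter.2 ⟨Finset.mem_univ _, cell_mem hbs hg ht hmem⟩
        have h2 : t ∈ Finset.univ.filter fun y : Pt => cellB bs t y = true :=
          Finset.mem_filter.2 ⟨Finset.mem_univ _, by
            simpa using cell_mem hbs (one_mem (Fx bs)) ht hmem⟩
        rw [hy, Finset.mem_singleton] at h1 h2
        rw [h1, h2]
    rw [this, Subgroup.card_bot]
    exact le_refl 1
  | b :: r, bs, hbs, hr, hnd, heq => by
    have hb := hr b List.mem_cons_self
    have hb' : b < 275 := by have := (nearB_iff.1 hb).2; omega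
    simp only [List.reverse_cons, List.append_assoc, List.singleton_append] at hnd heq
    have hne : b ∉ bs := (List.nodup_cons.1 (List.nodup_append.1 hnd).2.1).1
    rw [card_step bs ⟨b, hb'⟩, baseBound]
    refine Nat.mul_le_mul ?_ (card_Fx_le r (b :: bs) (List.forall_mem_cons.2 ⟨hb, hbs⟩)
      (fun x hx => hr x (List.mem_cons_of_mem _ hx)) hnd heq)
    rw [← card_filter_cnt (cellB bs b), ← Set.ncard_coe_finset]
    refine Set.ncard_le_ncard ?_ (Finset.finite_toSet _)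
    rintro _ ⟨g, rfl⟩
    rw [Finset.mem_coe, Finset.mem_filter]
    exact ⟨Finset.mem_univ _, cell_mem hbs g.2 (t := ⟨b, hb'⟩) (mem_Bs'.2 hb) hne⟩

theorem card_AutR_lt : Nat.card ↥AutR < 275 * 898128000 := by
  have hb := base_chk
  simp only [baseOK, Bool.and_eq_true, decide_eq_true_eq, Nat.blt_eq, List.all_eq_true] at hb
  obtain ⟨⟨⟨h1, h2⟩, h3⟩, -⟩ := hb
  have hF : Nat.card ↥(Fx []) < 898128000 :=
    lt_of_le_of_lt (card_Fx_le basePts [] (by simp) h1 (by simpa using h2) (by simp)) h3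
  have hc := (stabilizer ↥AutR p0).card_mul_index
  rw [index_stabilizer] at hc
  have ho : (orbit ↥AutR p0).ncard ≤ 275 :=
    (Set.ncard_le_ncard (Set.subset_univ _) Set.finite_univ).trans (by rw [Set.ncard_univ, Nat.card_fin])
  have e : Nat.card ↥(stabilizer ↥AutR p0) = Nat.card ↥(Fx []) := Nat.card_congr
    { toFun := fun g => ⟨g.1.1, g.1.2, g.2, fun x hx => absurd hx List.not_mem_nil⟩
      invFun := fun g => ⟨⟨g.1, g.2.1⟩, g.2.2.1⟩
      left_inv := fun _ => rfl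
      right_inv := fun _ => rfl }
  rw [e] at hc
  calc Nat.card ↥AutR = Nat.card ↥(Fx []) * (orbit ↥AutR p0).ncard := hc.symm
    _ ≤ Nat.card ↥(Fx []) * 275 := Nat.mul_le_mul_left _ ho
    _ < 275 * 898128000 := by rw [mul_comm]; exact Nat.mul_lt_mul_of_pos_left hF (by norm_num)

end CfsgLib.McLRec
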