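import Cfsg.Agent.Lib.McLRec.Defs

/-!
Checks of labels, graph and orbits.
-/

set_option autoImplicit false
set_option Elab.async false
set_option maxRecDepth 100000

namespace CfsgLib.McLRec

open CfsgLib.CosetEnum CfsgLib.M24.PackChain

theorem lab_chk : labOK = true := by decide +kernel

theorem graph_chk : graphOK = true := by decide +kernel

theorem aut_chk : allUp (autAt (nth genT 0 0)) 9 0 = true ∧ allUp (autAt (nth genT 1 0)) 9 0 = true := by
  decide +kernel

theorem h_chk : hOK = true := by decide +kernel

theorem orbits_chk : orbitsOK = true := by decide +kernel

end CfsgLib.McLRec
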