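import Cfsg.Agent.Lib.McLRec.Defs
import Cfsg.Agent.Lib.LeechIso.DataU4

/-!
Check of the chain in the stabilizer.
-/

set_option autoImplicit false
set_option Elab.async false
set_option maxRecDepth 100000

namespace CfsgLib.McLRec

open CfsgLib.LeechIso

theorem chain_chk : chainOK 275 3265920 hT mProg mLev = true := by decide +kernel

theorem rel_chk : relOK 275 126 relR hT CfsgLib.LeechIso.U4.Q relW = true := by decide +kernel

end CfsgLib.McLRec
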