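import Cfsg.Agent.Lib.McLRec.Defs

/-!
Checks of the counts, the halves and the base.
-/

set_option autoImplicit false
set_option Elab.async false
set_option maxRecDepth 100000

namespace CfsgLib.McLRec

open CfsgLib.CosetEnum

theorem seven_chk : sevenOK = true := by decide +kernel

theorem cyc_chk : cycOK = true := by decide +kernel

theorem line_chk : lineOK = true := by decide +kernel

theorem far_chk : farOK = true := by decide +kernel

theorem near_chk : nearOK = true := by decide +kernel

theorem base_chk : baseOK = true := by decide +kernel

end CfsgLib.McLRec
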