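import Cfsg.Agent.Lib.McLRec.Defs

/-!
The selections of cycles meeting every line twice.
-/

set_option autoImplicit false
set_option Elab.async false
set_option maxRecDepth 100000

namespace CfsgLib.McLRec

open CfsgLib.CosetEnum

theorem half_chk : allUp halfAt 16 0 = true := by decide +kernel

end CfsgLib.McLRec
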