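import Cfsg.Agent.Lib.McLRec.Defs

/-!
Checks of the permutations moving the halves.
-/

set_option autoImplicit false
set_option Elab.async false
set_option maxRecDepth 100000

namespace CfsgLib.McLRec

theorem pi_chk : (List.range 4).all piAt = true := by decide +kernel

theorem cands_len : cands.length = 4 ∧ piP.length = 4 := by decide +kernel

end CfsgLib.McLRec
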