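import Cfsg.Agent.Lib.McLRec.Data
import Cfsg.Agent.Lib.McLMult.Sys
import Cfsg.Agent.Lib.LeechIso.Engine

/-!
The checks of the data for the rank three action on 275 points.
-/

set_option autoImplicit false

namespace CfsgLib.McLRec

open CfsgLib.CosetEnum CfsgLib.M24.PackChain

/-- an entry of the graph -/
noncomputable def rowB (x y : ℕ) : Bool := Nat.testBit (nth rows x 0) y

/-- a near point -/
noncomputable def nearB (x : ℕ) : Bool := band (ltB 0 x) (ltB x 113)

/-- a far point -/
noncomputable def farB (x : ℕ) : Bool := band (ltB 112 x) (ltB x 275)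

/-- the number of points with a property -/
noncomputable def cnt (p : ℕ → Bool) : ℕ := (List.range 275).countP p

/-- the number of near common neighbours -/
noncomputable def comB (x y : ℕ) : ℕ :=
  strict (nth rows x 0) fun a => strict (nth rows y 0) fun b =>
    cnt fun z => band (nearB z) (band (Nat.testBit a z) (Nat.testBit b z))

/-- the new labels respect the action -/
noncomputable def labOK : Bool :=
  (List.range 275).all fun i => ltB (pk labP i) 275 && ltB (pk labI i) 275 &&
    Nat.beq (pk labI (pk labP i)) i && Nat.beq (pk labP (pk labI i)) i &&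
      (List.range 4).all fun j => Nat.beq (pk (nth genT j 0) (pk labP i)) (pk labP (CfsgLib.McLMult.fwdP j i))

/-- a permutation respects the graph -/
noncomputable def autAt (A x : ℕ) : Bool :=
  strict x fun x => pick (ltB x 275)
    (strict (nth rows (pk A x) 0) fun r' => strict (nth rows x 0) fun r =>
      (List.range 275).all fun y => Nat.testBit r' (pk A y) == Nat.testBit r y) true

/-- the graph is symmetric without loops, with the near points as the first row -/
noncomputable def graphOK : Bool :=
  (List.range 275).all (fun x => (!rowB x x) && (rowB 0 x == nearB x) &&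
    strict (nth rows x 0) fun r => (List.range x).all fun y => Nat.testBit r y == rowB y x)

/-- the generators of the stabilizer are in the group -/
noncomputable def hOK : Bool :=
  progOK 275 genT hProg && Nat.beq genT.length 4 && Nat.beq hIdx.length 2 && Nat.beq hT.length 2 &&
    (List.range 2).all fun k => Nat.blt (nth hIdx k 0) (vals genT hProg).length &&
      Nat.beq (nth (vals genT hProg) (nth hIdx k 0) 0) (nth hT k 0) && Nat.beq (pk (nth hT k 0) 0) 0

/-- an orbit tree using some elements -/
noncomputable def treeOK (vs : List ℕ) (b : ℕ) (t : List (ℕ × ℕ)) : Bool :=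
  ltB b 275 && growOK 275 vs (Nat.pow (nat_lit 2) b) t && t.all fun e => Nat.blt e.2 vs.length

/-- the elements used fix a point -/
noncomputable def treeFix (vs : List ℕ) (t : List (ℕ × ℕ)) (p : ℕ) : Bool :=
  t.all fun e => Nat.beq (pk (nth vs e.2 0) p) p

/-- the orbits -/
noncomputable def orbitsOK : Bool :=
  treeOK genT 0 treeAll && Nat.beq treeAll.length 274 &&
    treeOK hT 113 treeC && Nat.beq treeC.length 161 &&
    treeOK (vals hT mProg) 1 (mLev.getD 0 (0, [])).2 && Nat.beq (mLev.getD 0 (0, [])).2.length 111 &&
    treeOK (vals hT mProg) 2 (mLev.getD 1 (0, [])).2 && Nat.beq (mLev.getD 1 (0, [])).2.length 80 &&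
    treeFix (vals hT mProg) (mLev.getD 1 (0, [])).2 1 && nearB 2 && !rowB 1 2 &&
    treeOK (vals hT mProg) z30 tree30 && Nat.beq tree30.length 29 &&
    treeFix (vals hT mProg) tree30 1 && nearB z30 && rowB 1 z30

/-- a power applied to a point -/
noncomputable def itP (P : ℕ) : ℕ → ℕ → ℕ
  | 0, x => x
  | n + 1, x => pk P (itP P n x)

/-- the element of order seven -/
noncomputable def sevenOK : Bool :=
  ((List.range 275).all fun x => Nat.beq (itP (nth hT 1 0) 7 x) x) &&
    Nat.beq (pk (nth hT 1 0) 113) 113 && !Nat.beq (pk (nth hT 1 0) 1) 1

/-- the cycles -/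
noncomputable def cycOK : Bool :=
  (List.range 275).all fun z => !nearB z ||
    (ltB (nth cycOf z 0) 16 && Nat.beq (itP (nth hT 1 0) (nth cycK z 0) (nth cycRep (nth cycOf z 0) 0)) z)

/-- the representatives of the lines -/
noncomputable def lineOK : Bool :=
  Nat.beq lineRep.length lineC.length && (List.range lineRep.length).all fun i =>
    Nat.beq (lineRep.getD i []).length 4 && decide (lineRep.getD i []).Nodup &&
      (lineC.getD i [] == (lineRep.getD i []).map fun x => nth cycOf x 0) &&
      (lineRep.getD i []).all fun x => nearB x &&
        (lineRep.getD i []).all fun y => Nat.beq x y || (rowB x y && Nat.beq (comB x y) 2)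

/-- a selection meets a line twice -/
noncomputable def halfLine (n : ℕ) (l : List ℕ) : Bool := Nat.beq (l.countP fun i => Nat.testBit n i) 2

/-- every good selection is listed -/
noncomputable def halfAt (n : ℕ) : Bool :=
  strict n fun n => pick (lineC.all (halfLine n)) (cands.any (Nat.beq n)) true

/-- the permutation of one candidate -/
noncomputable def piAt (k : ℕ) : Bool :=
  strict (nth piP k 0) fun P => strict (nth piI k 0) fun Q => strict (nth cands k 0) fun N =>
    ((List.range 275).all fun x => ltB (pk P x) 275 && ltB (pk Q x) 275 &&
      Nat.beq (pk Q (pk P x)) x && Nat.beq (pk P (pk Q x)) x && (nearB (pk P x) == nearB x)) &&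
    ((List.range 275).all fun x => !nearB x ||
      ((Nat.testBit N (nth cycOf (pk P x) 0) == rowB 113 x) &&
        ((List.range 2).all fun j => strict (nth (piW.getD k []) j 0) fun w =>
          Nat.blt w (vals hT mProg).length &&
            Nat.beq (pk P (pk (nth hT j 0) x)) (pk (nth (vals hT mProg) w 0) (pk P x))) &&
        strict (nth rows (pk P x) 0) fun r' => strict (nth rows x 0) fun r =>
          (List.range 113).all fun y => !nearB y || Nat.testBit r' (pk P y) == Nat.testBit r y))

/-- the counts of common near neighbours with the point 113 -/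
noncomputable def farOK : Bool :=
  Nat.beq (cnt fun z => band (nearB z) (rowB 113 z)) 56 && Nat.beq (cnt fun z => band (farB z) (rowB 113 z)) 56 &&
    (List.range 275).all fun c => !farB c || Nat.beq c 113 ||
      Nat.beq (comB 113 c) (if rowB 113 c then 20 else 32)

/-- the counts around the point 1 -/
noncomputable def nearOK : Bool :=
  Nat.beq (cnt fun z => band (nearB z) (rowB 1 z)) 30 && Nat.beq (cnt fun z => band (farB z) (rowB 1 z)) 81 &&
    (List.range 275).all fun z => !(band (nearB z) (rowB 1 z)) || Nat.beq (comB 1 z) 2

/-- the near points with the same adjacencies to some points as `t` -/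
noncomputable def cellB (bs : List ℕ) (t y : ℕ) : Bool :=
  band (nearB y) (bs.all fun b => !Nat.beq b y && (rowB b y == rowB b t))

/-- the product of the choices along a base -/
noncomputable def baseBound : List ℕ → List ℕ → ℕ
  | _, [] => 1
  | bs, b :: r => cnt (cellB bs b) * baseBound (b :: bs) r

/-- the base determines every point -/
noncomputable def baseOK : Bool :=
  (basePts.all nearB) && decide basePts.Nodup &&
    Nat.blt (baseBound [] basePts) 898128000 &&
    (List.range 275).all fun t => !nearB t || basePts.any (Nat.beq t) || Nat.beq (cnt (cellB basePts.reverse t)) 1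

end CfsgLib.McLRec
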