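import Cfsg.Agent.Lib.McLRec.Halves

/-!
A rank three group on 275 points with stabilizer `U₄(3)` is McL.
-/

set_option autoImplicit false
set_option maxRecDepth 30000

namespace CfsgLib.McLRec

open Cfsg MulAction
open scoped Pointwise

attribute [local irreducible] rows

theorem exists_equivariant {H Ω : Type*} [Group H] [MulAction H Ω] (ε : H ≃* ↥M0) (w : Ω) {i0 : Pt}
    {S : Finset Pt} (hS : ∀ i, i ∈ S ↔ ∃ k : ↥M0, k • i0 = i)
    (h : (stabilizer H w).map ε.toMonoidHom = stabilizer ↥M0 i0) :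
    ∃ f : Pt → Ω, (∀ i ∈ S, ∀ j ∈ S, f i = f j → i = j) ∧ (∀ y, y ∈ orbit H w ↔ ∃ i ∈ S, f i = y) ∧
      (∀ (x : H), ∀ i ∈ S, f (ε x • i) = x • f i) ∧ f i0 = w := by
  classical
  let k : Pt → ↥M0 := fun i => if hi : i ∈ S then ((hS i).1 hi).choose else 1
  have hk : ∀ i ∈ S, k i • i0 = i := fun i hi => by simp only [k, dif_pos hi]; exact ((hS i).1 hi).choose_spec
  let f : Pt → Ω := fun i => ε.symm (k i) • w
  have key : ∀ (x : H) i, i ∈ S → ε x • i0 = i → f i = x • w := fun x i hi e => by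
    have hm : (k i)⁻¹ * ε x ∈ stabilizer ↥M0 i0 := by
      rw [mem_stabilizer_iff, mul_smul, e, inv_smul_eq_iff, hk i hi]
    rw [← h, Subgroup.mem_map] at hm
    obtain ⟨y, hy, he⟩ := hm
    have : x = ε.symm (k i) * y := ε.injective (by
      rw [map_mul, MulEquiv.apply_symm_apply, show ε y = (k i)⁻¹ * ε x from he, mul_inv_cancel_left])
    rw [this, mul_smul, mem_stabilizer_iff.1 hy]
  refine ⟨f, fun i hi j hj e => ?_, fun y => ?_, fun x i hi => ?_, ?_⟩
  · have hm : (ε.symm (k j))⁻¹ * ε.symm (k i) ∈ stabilizer H w := by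
      rw [mem_stabilizer_iff, mul_smul, inv_smul_eq_iff]; exact e
    have := Subgroup.mem_map_of_mem ε.toMonoidHom hm
    rw [h, mem_stabilizer_iff] at this
    simp only [MulEquiv.coe_toMonoidHom, map_mul, map_inv, MulEquiv.apply_symm_apply, mul_smul,
      inv_smul_eq_iff, hk i hi, hk j hj] at this
    exact this
  · constructor
    · rintro ⟨x, rfl⟩
      have hi : ε x • i0 ∈ S := (hS _).2 ⟨_, rfl⟩
      exact ⟨_, hi, key x _ hi rfl⟩
    · rintro ⟨i, -, rfl⟩; exact ⟨_, rfl⟩
  · have hi' : ε x • i ∈ S := by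
      obtain ⟨l, hl⟩ := (hS i).1 hi
      exact (hS _).2 ⟨ε x * l, by rw [mul_smul, hl]⟩
    rw [key (x * ε.symm (k i)) _ hi' (by rw [map_mul, MulEquiv.apply_symm_apply, mul_smul, hk i hi]), mul_smul]
  · have : i0 ∈ S := (hS _).2 ⟨1, one_smul _ _⟩
    rw [key 1 i0 this (by rw [map_one, one_smul]), one_smul]

/-- a set invariant under the stabilizer of the first near point -/
theorem inv_union {T : Finset Pt} (hT : T ⊆ Bs) (hinv : ∀ m : ↥M0, m • b1 = b1 → ∀ y ∈ T, m • y ∈ T)
    (hb : b1 ∉ T) : T.card = 0 ∨ T = N1 ∨ T = N2 ∨ T.card = 111 := by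
  classical
  have key : ∀ N : Finset Pt, (∀ y ∈ N, ∀ z ∈ N, ∃ m : ↥M0, m • b1 = b1 ∧ m • y = z) →
      N ⊆ T ∨ Disjoint N T := fun N hN => by
    by_cases h : ∃ y ∈ N, y ∈ T
    · obtain ⟨y, hy, hyT⟩ := h
      exact Or.inl fun z hz => by obtain ⟨m, h1, rfl⟩ := hN y hy z hz; exact hinv m h1 y hyT
    · push Not at h
      exact Or.inr (Finset.disjoint_left.2 h)
  have hsub : T ⊆ N1 ∪ N2 := fun y hy => by
    have hne : y ≠ b1 := fun e => hb (e ▸ hy)
    simp only [Finset.mem_union, N1, N2, Finset.mem_filter]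
    by_cases ha : Adj b1 y
    · exact Or.inl ⟨hT hy, ha⟩
    · exact Or.inr ⟨hT hy, hne, ha⟩
  have hdis : Disjoint N1 N2 :=
    Finset.disjoint_left.2 fun y h1 h2 => (Finset.mem_filter.1 h2).2.2 (Finset.mem_filter.1 h1).2
  rcases key N1 (fun y hy z hz => N_trans (Or.inl ⟨hy, hz⟩)) with h1 | h1 <;>
    rcases key N2 (fun y hy z hz => N_trans (Or.inr ⟨hy, hz⟩)) with h2 | h2
  · right; right; right
    rw [Finset.Subset.antisymm hsub (Finset.union_subset h1 h2), Finset.card_union_of_disjoint hdis, card_N1,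
      card_N2]
  · right; left
    exact Finset.Subset.antisymm (fun y hy => (Finset.mem_union.1 (hsub hy)).resolve_right
      fun h => Finset.disjoint_left.1 h2 h hy) h1
  · right; right; left
    exact Finset.Subset.antisymm (fun y hy => (Finset.mem_union.1 (hsub hy)).resolve_left
      fun h => Finset.disjoint_left.1 h1 h hy) h2
  · left
    rw [Finset.card_eq_zero, Finset.eq_empty_iff_forall_notMem]
    intro y hy
    rcases Finset.mem_union.1 (hsub hy) with h | h
    exacts [Finset.disjoint_left.1 h1 h hy, Finset.disjoint_left.1 h2 h hy]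

/-- A subgroup of the graph's automorphisms of the order of McL containing the stabilizer is the model. -/
theorem eq_SS {A : Subgroup (Equiv.Perm Pt)} (hA : A ≤ AutR) (hM : M0 ≤ A)
    (hc : Nat.card ↥A = 898128000) : A = SS := by
  set K := A ⊓ SS with hK
  have hMK : M0 ≤ K := le_inf hM inf_le_left
  have horb := (stabilizer ↥K p0).card_mul_index
  rw [index_stabilizer] at horb
  have hst : Nat.card ↥(stabilizer ↥K p0) = 3265920 := by
    rw [← natCard_M0]
    exact Nat.card_congr
      { toFun := fun g => ⟨g.1.1, g.1.2.2, g.2⟩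
        invFun := fun g => ⟨⟨g.1, hMK g.2⟩, g.2.2⟩
        left_inv := fun _ => rfl
        right_inv := fun _ => rfl }
  rw [hst] at horb
  set O := orbit ↥K p0 with hO
  have hdvd : O.ncard ∣ 275 := by
    have h1 : Nat.card ↥K ∣ Nat.card ↥SS := Subgroup.card_dvd_of_le inf_le_right
    rw [natCard_SS, ← horb, show (898128000 : ℕ) = 3265920 * 275 by norm_num] at h1
    exact (Nat.mul_dvd_mul_iff_left (by norm_num)).1 h1
  have hinv : ∀ (m : ↥M0) y, y ∈ O → m • y ∈ O := by
    rintro m _ ⟨k, rfl⟩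
    exact ⟨⟨m.1, hMK m.2⟩ * k, mul_smul _ _ _⟩
  have hBO : ∀ y ∈ O, y ∈ Bs → ↑Bs ⊆ O := fun y hy hyB z hz => by
    obtain ⟨m, rfl⟩ := (mem_Bs_iff y).1 hyB
    obtain ⟨l, rfl⟩ := (mem_Bs_iff z).1 hz
    have := hinv (l * m⁻¹) _ hy
    rwa [← mul_smul, inv_mul_cancel_right] at this
  have hCO : ∀ y ∈ O, y ∈ Cs → ↑Cs ⊆ O := fun y hy hyB z hz => by
    obtain ⟨m, rfl⟩ := (mem_Cs_iff y).1 hyB
    obtain ⟨l, rfl⟩ := (mem_Cs_iff z).1 hz
    have := hinv (l * m⁻¹) _ hy
    rwa [← mul_smul, inv_mul_cancel_right] at this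
  by_cases h1 : O.ncard = 1
  · exfalso
    rw [h1, mul_one] at horb
    have hKA : (A.subgroupOf SS).index = 275 := by
      have := (A.subgroupOf SS).card_mul_index
      rw [natCard_SS, show Nat.card ↥(A.subgroupOf SS) = 3265920 by
        rw [horb, hK]
        exact Nat.card_congr
          { toFun := fun g => ⟨g.1.1, g.2, g.1.2⟩
            invFun := fun g => ⟨⟨g.1, g.2.2⟩, g.2.1⟩
            left_inv := fun _ => rfl
            right_inv := fun _ => rfl }] at this
      omega
    have h2 : A.relIndex SS ≤ A.relIndex AutR :=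
      Subgroup.relIndex_le_of_le_right SS_le Subgroup.index_ne_zero_of_finite
    have h3 := (A.subgroupOf AutR).card_mul_index
    rw [Nat.card_congr (Subgroup.subgroupOfEquivOfLe hA).toEquiv, hc] at h3
    have h4 := card_AutR_lt
    have h5 : 275 ≤ (A.subgroupOf AutR).index := hKA ▸ h2
    nlinarith
  · have hbig : ∀ y ∈ O, y ≠ p0 → O.ncard = 275 := by
      intro y hy hne
      have hle := Nat.le_of_dvd (by norm_num) hdvd
      have : 113 ≤ O.ncard ∧ O.ncard ≠ 0 := by
        have hp : p0 ∈ O := mem_orbit_self _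
        rcases pt_cases y with rfl | hB | hC
        · exact absurd rfl hne
        · have h := Set.ncard_le_ncard (Set.insert_subset hp (hBO y hy hB)) (Set.toFinite _)
          rw [Set.ncard_insert_of_notMem (by simpa using p0_notMem.1), Set.ncard_coe_finset, card_Bs] at h
          omega
        · have h := Set.ncard_le_ncard (Set.insert_subset hp (hCO y hy hC)) (Set.toFinite _)
          rw [Set.ncard_insert_of_notMem (by simpa using p0_notMem.2), Set.ncard_coe_finset, card_Cs] at h
          omega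
      obtain ⟨c, hc'⟩ := hdvd
      have hc2 : c ≤ 2 := by nlinarith
      interval_cases c <;> omega
    obtain ⟨y, hy, hne⟩ := Set.exists_ne_of_one_lt_ncard (show 1 < O.ncard by
      have : O.ncard ≠ 0 := fun h => by
        have := (Set.ncard_eq_zero (Set.toFinite _)).1 h
        exact (this ▸ mem_orbit_self (M := ↥K) p0 : p0 ∈ (∅ : Set Pt)).elim
      omega) p0
    rw [hbig y hy hne] at horb
    have hKS : K = SS := Subgroup.eq_of_le_of_card_ge inf_le_right (by rw [natCard_SS, ← horb])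
    exact (Subgroup.eq_of_le_of_card_ge (hKS ▸ inf_le_left : SS ≤ A) (by rw [hc, natCard_SS])).symm

/-- The recognition. -/
theorem equiv_SS {Ω : Type*} [Fintype Ω] [DecidableEq Ω] (hΩ : Fintype.card Ω = 275)
    (G : Subgroup (Equiv.Perm Ω)) [IsPretransitive G Ω] (a : Ω) (ε : stabilizer G a ≃* ↥M0) (b c : Ω)
    (hb : (orbit (stabilizer G a) b).ncard = 112) (hc : (orbit (stabilizer G a) c).ncard = 162) :
    Nonempty (↥G ≃* ↥SS) := by
  classical
  set H := stabilizer G a
  have card_map : ∀ (e : ↥H ≃* ↥M0) (w : Ω),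
      Nat.card ↥((stabilizer ↥H w).map e.toMonoidHom) * (orbit ↥H w).ncard = 3265920 := by
    intro e w
    rw [← index_stabilizer,
      ← Nat.card_congr ((stabilizer ↥H w).equivMapOfInjective _ e.injective).toEquiv,
      Subgroup.card_mul_index, Nat.card_congr e.toEquiv, natCard_M0]
  obtain ⟨z0, hz0, hz0e⟩ := index112 ((stabilizer ↥H b).map ε.toMonoidHom)
    (by have := card_map ε b; rw [hb] at this; omega)
  have hBS : ∀ i, i ∈ Bs ↔ ∃ k : ↥M0, k • z0 = i := fun i => by
    obtain ⟨k0, hk0⟩ := (mem_Bs_iff z0).1 hz0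
    rw [mem_Bs_iff]
    constructor
    · rintro ⟨k, hk⟩; exact ⟨k * k0⁻¹, by rw [← hk0, mul_smul, inv_smul_smul, hk]⟩
    · rintro ⟨k, hk⟩; exact ⟨k * k0, by rw [mul_smul, hk0, hk]⟩
  obtain ⟨fB, fBi, fBr, fBe, -⟩ := exists_equivariant ε b hBS hz0e
  have hfixa : ∀ x : ↥H, x • a = a := fun x => x.2
  have hane : ∀ w, (orbit ↥H w).ncard ≠ 1 → a ∉ orbit ↥H w := fun w hw ha => hw (by
    rw [← orbit_eq_iff.2 ha, Set.ncard_eq_one]
    exact ⟨a, Set.eq_singleton_iff_unique_mem.2 ⟨mem_orbit_self a, by rintro _ ⟨x, rfl⟩; exact hfixa x⟩⟩)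
  have hab : a ∉ orbit ↥H b := hane b (by omega)
  have hac : a ∉ orbit ↥H c := hane c (by omega)
  set B := (Set.toFinite (orbit ↥H b)).toFinset
  set C := (Set.toFinite (orbit ↥H c)).toFinset
  have mB : ∀ y, y ∈ B ↔ y ∈ orbit ↥H b := fun y => Set.Finite.mem_toFinset _
  have mC : ∀ y, y ∈ C ↔ y ∈ orbit ↥H c := fun y => Set.Finite.mem_toFinset _
  have cB : B.card = 112 := by rw [← hb, Set.ncard_eq_toFinset_card _ (Set.toFinite _)]
  have cC : C.card = 162 := by rw [← hc, Set.ncard_eq_toFinset_card _ (Set.toFinite _)]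
  have hBC : Disjoint B C := by
    rw [Finset.disjoint_left]
    intro y h1 h2
    rw [mB] at h1; rw [mC] at h2
    rw [← orbit_eq_iff.2 h1, orbit_eq_iff.2 h2, hc] at hb
    omega
  have hall : ∀ y, y = a ∨ y ∈ B ∨ y ∈ C := by
    intro y
    by_contra h
    push Not at h
    have := Finset.card_le_univ (insert y (insert a (B ∪ C)))
    rw [Finset.card_insert_of_notMem (by simp [h.1, h.2.1, h.2.2]),
      Finset.card_insert_of_notMem (by simp [mB, mC, hab, hac]), Finset.card_union_of_disjoint hBC, cB, cC,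
      hΩ] at this
    omega
  have hBz : ∀ (z : ↥H) x, x ∈ B → z • x ∈ B := fun z x hx => by
    obtain ⟨u, rfl⟩ := (mB x).1 hx
    exact (mB _).2 ⟨z * u, mul_smul _ _ _⟩
  have hCz : ∀ (z : ↥H) x, x ∈ C → z • x ∈ C := fun z x hx => by
    obtain ⟨u, rfl⟩ := (mC x).1 hx
    exact (mC _).2 ⟨z * u, mul_smul _ _ _⟩
  -- the orbital graph
  let E : Ω → Ω → Prop := fun x y => ∃ g : ↥G, g • a = x ∧ g • b = y
  have Einv : ∀ (g : ↥G) x y, E (g • x) (g • y) ↔ E x y := fun g x y =>
    ⟨fun ⟨k, h1, h2⟩ => ⟨g⁻¹ * k, by rw [mul_smul, h1, inv_smul_smul], by rw [mul_smul, h2, inv_smul_smul]⟩,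
      fun ⟨k, h1, h2⟩ => ⟨g * k, by rw [mul_smul, h1], by rw [mul_smul, h2]⟩⟩
  have Ea : ∀ y, E a y ↔ y ∈ B := fun y => by
    rw [mB]
    exact ⟨fun ⟨g, h1, h2⟩ => ⟨⟨g, h1⟩, h2⟩, fun ⟨x, hx⟩ => ⟨x.1, x.2, hx⟩⟩
  have hirr : ∀ x, ¬ E x x := by
    intro x h
    obtain ⟨g, rfl⟩ := exists_smul_eq ↥G a x
    exact hab ((mB a).1 ((Ea a).1 ((Einv g a a).1 h)))
  have hcnt : ∀ (g : ↥G) (P Q : Ω → Prop) [DecidablePred P] [DecidablePred Q],
      (∀ y, Q (g • y) ↔ P y) → (Finset.univ.filter Q).card = (Finset.univ.filter P).card := by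
    intro g P Q _ _ hPQ
    refine (Finset.card_bij (fun y _ => g • y) (fun y hy => ?_) (fun y _ y' _ e => by simpa using e)
      fun y hy => ⟨g⁻¹ • y, ?_, smul_inv_smul _ _⟩).symm
    · simp only [Finset.mem_filter, Finset.mem_univ, true_and] at hy ⊢
      exact (hPQ y).2 hy
    · simp only [Finset.mem_filter, Finset.mem_univ, true_and] at hy ⊢
      exact (hPQ _).1 (by rwa [smul_inv_smul])
  have hdeg : ∀ x, (Finset.univ.filter fun y => E x y).card = 112 := fun x => by
    obtain ⟨g, rfl⟩ := exists_smul_eq ↥G a x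
    rw [← cB, hcnt g (fun y => E a y) _ fun y => Einv g a y]
    exact congrArg Finset.card (Finset.ext fun y => by simp [Ea])
  have hEH : ∀ (x : ↥H) u v, E (x • u) (x • v) ↔ E u v := fun x u v => Einv x.1 u v
  have hin : (Finset.univ.filter fun y => E y a).card = 112 := by
    have h := Finset.sum_card_bipartiteAbove_eq_sum_card_bipartiteBelow (fun x y => E x y)
      (s := (Finset.univ : Finset Ω)) (t := (Finset.univ : Finset Ω))
    have e2 : ∀ y, (Finset.bipartiteBelow (fun x y => E x y) (Finset.univ : Finset Ω) y).card =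
        (Finset.univ.filter fun z => E z a).card := fun y => by
      obtain ⟨g, rfl⟩ := exists_smul_eq ↥G a y
      exact hcnt g (fun z => E z a) (fun z => E z (g • a)) fun z => Einv g z a
    have e1 : ∀ x, (Finset.bipartiteAbove (fun x y => E x y) (Finset.univ : Finset Ω) x).card = 112 := fun x =>
      hdeg x
    simp only [e1, e2, Finset.sum_const, Finset.card_univ, hΩ, smul_eq_mul] at h
    omega
  have hba : E b a := by
    set T := Finset.univ.filter fun y => E y a
    have hsub : T ⊆ B := by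
      intro y hy
      simp only [T, Finset.mem_filter, Finset.mem_univ, true_and] at hy
      rcases hall y with rfl | h | h
      · exact absurd hy (hirr _)
      · exact h
      · exfalso
        have : C ⊆ T := fun z hz => by
          rw [mC] at h hz
          rw [← orbit_eq_iff.2 h] at hz
          obtain ⟨x, rfl⟩ := hz
          simp only [T, Finset.mem_filter, Finset.mem_univ, true_and]
          have := (hEH x y a).2 hy
          rwa [hfixa] at this
        have := Finset.card_le_card this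
        omega
    have := Finset.eq_of_subset_of_card_le hsub (by rw [hin, cB])
    have hbT : b ∈ T := by rw [this, mB]; exact mem_orbit_self b
    simpa [T] using hbT
  have Esymm : ∀ {x y}, E x y → E y x := fun ⟨g, h1, h2⟩ => by
    obtain ⟨k, k1, k2⟩ := hba
    exact ⟨g * k, by rw [mul_smul, k1, h2], by rw [mul_smul, k2, h1]⟩
  have hEBa : ∀ x ∈ B, E x a := fun x hx => Esymm ((Ea x).2 hx)
  have hsplit : ∀ (P : Ω → Prop) [DecidablePred P], (Finset.univ.filter P).card =
      (if P a then 1 else 0) + (B.filter P).card + (C.filter P).card := fun P _ => by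
    have e : (Finset.univ.filter P) = (({a} : Finset Ω).filter P) ∪ (B.filter P) ∪ (C.filter P) := by
      ext y
      simp only [Finset.mem_union, Finset.mem_filter, Finset.mem_univ, true_and, Finset.mem_singleton]
      exact ⟨fun h => by
        rcases hall y with h' | h' | h'
        exacts [Or.inl (Or.inl ⟨h', h⟩), Or.inl (Or.inr ⟨h', h⟩), Or.inr ⟨h', h⟩],
        fun h => by rcases h with (⟨-, h⟩ | ⟨-, h⟩) | ⟨-, h⟩ <;> exact h⟩
    rw [e, Finset.card_union_of_disjoint, Finset.card_union_of_disjoint]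
    · congr 2
      rw [Finset.filter_singleton]
      split <;> simp
    · exact Finset.disjoint_filter_filter (by simp [mB, hab])
    · rw [Finset.disjoint_union_left]
      exact ⟨Finset.disjoint_filter_filter (by simp [mC, hac]), Finset.disjoint_filter_filter hBC⟩
  have hfBB : ∀ i ∈ Bs, fB i ∈ B := fun i hi => (mB _).2 ((fBr _).2 ⟨i, hi, rfl⟩)
  have hBfilter : ∀ (f : Pt → Ω), (∀ i ∈ Bs, ∀ j ∈ Bs, f i = f j → i = j) → (∀ i ∈ Bs, f i ∈ B) →
      (∀ y ∈ B, ∃ i ∈ Bs, f i = y) → ∀ (P : Ω → Prop) [DecidablePred P],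
        (B.filter P).card = (Bs.filter fun i => P (f i)).card := fun f fi fm fs P _ => by
    refine (Finset.card_bij (fun y _ => f y) (fun y hy => ?_) (fun y hy y' hy' e => ?_) fun y hy => ?_).symm
    · simp only [Finset.mem_filter] at hy ⊢; exact ⟨fm y hy.1, hy.2⟩
    · exact fi y (Finset.mem_filter.1 hy).1 y' (Finset.mem_filter.1 hy').1 e
    · simp only [Finset.mem_filter] at hy
      obtain ⟨i, hi, rfl⟩ := fs y hy.1
      exact ⟨i, Finset.mem_filter.2 ⟨hi, hy.2⟩, rfl⟩
  have fBs : ∀ y ∈ B, ∃ i ∈ Bs, fB i = y := fun y hy => (fBr y).1 ((mB y).1 hy)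
  -- the graph on the near points
  set T := Bs.filter fun y => E (fB b1) (fB y)
  have hTinv : ∀ m : ↥M0, m • b1 = b1 → ∀ y ∈ T, m • y ∈ T := by
    intro m hm y hy
    obtain ⟨z, rfl⟩ := ε.surjective m
    simp only [T, Finset.mem_filter] at hy ⊢
    refine ⟨(smul_Bs _).2 hy.1, ?_⟩
    rw [fBe z y hy.1, ← hm, fBe z b1 b1_mem, hEH]
    exact hy.2
  set lam := T.card
  have hNB : ∀ x ∈ B, (B.filter fun y => E x y).card = lam := by
    intro x hx
    obtain ⟨i, hi, rfl⟩ := fBs x hx
    obtain ⟨k, rfl⟩ := (mem_Bs_iff i).1 hi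
    obtain ⟨z, rfl⟩ := ε.surjective k
    rw [hBfilter fB fBi hfBB fBs fun y => E _ y]
    refine (Finset.card_bij (fun y _ => ε z • y) (fun y hy => ?_) (fun y _ y' _ e => by simpa using e)
      fun y hy => ⟨(ε z)⁻¹ • y, ?_, smul_inv_smul _ _⟩).symm
    · simp only [T, Finset.mem_filter] at hy ⊢
      refine ⟨(smul_Bs _).2 hy.1, ?_⟩
      rw [fBe z b1 b1_mem, fBe z y hy.1, hEH]; exact hy.2
    · simp only [T, Finset.mem_filter] at hy ⊢
      have hy' : (ε z)⁻¹ • y ∈ Bs := (smul_Bs _).2 hy.1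
      refine ⟨hy', ?_⟩
      rw [← hEH z, ← fBe z b1 b1_mem, ← fBe z _ hy', smul_inv_smul]; exact hy.2
  have hNC : ∀ x ∈ B, (C.filter fun y => E x y).card = 111 - lam := fun x hx => by
    have h := hsplit fun y => E x y
    rw [hdeg, if_pos (hEBa x hx), hNB x hx] at h
    omega
  set mu := (B.filter fun y => E c y).card
  have hNcB : ∀ y ∈ C, (B.filter fun x => E y x).card = mu := by
    intro y hy
    obtain ⟨z, rfl⟩ := (mC y).1 hy
    refine (Finset.card_bij (fun x _ => z • x) (fun x hx => ?_) (fun x _ x' _ e => by simpa using e)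
      fun x hx => ⟨z⁻¹ • x, ?_, smul_inv_smul _ _⟩).symm
    · simp only [Finset.mem_filter] at hx ⊢
      exact ⟨hBz z x hx.1, (hEH z c x).2 hx.2⟩
    · simp only [Finset.mem_filter] at hx ⊢
      exact ⟨hBz _ x hx.1, (hEH z c _).1 (by rw [smul_inv_smul]; exact hx.2)⟩
  have hcount : 112 * (111 - lam) = 162 * mu := by
    have h := Finset.sum_card_bipartiteAbove_eq_sum_card_bipartiteBelow (fun x y => E x y) (s := B) (t := C)
    simp only [Finset.bipartiteAbove, Finset.bipartiteBelow] at h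
    rw [Finset.sum_congr rfl hNC, Finset.sum_congr rfl fun y hy =>
      ((congrArg Finset.card (Finset.filter_congr fun x _ => ⟨Esymm, Esymm⟩)).trans (hNcB y hy)),
      Finset.sum_const, Finset.sum_const, cB, cC, smul_eq_mul, smul_eq_mul] at h
    exact h
  have hT1 : T = N1 := by
    rcases inv_union (Finset.filter_subset _ _) hTinv
      (fun h => hirr _ (Finset.mem_filter.1 h).2) with h | h | h | h
    · exfalso
      have h' : lam = 0 := h
      rw [h'] at hcount
      omega
    · exact h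
    · exfalso
      have h' : lam = 81 := (congrArg Finset.card h).trans card_N2
      rw [h'] at hcount
      omega
    · exfalso
      have h' : lam = 111 := h
      set S := insert a B
      have hScard : S.card = 113 := by rw [Finset.card_insert_of_notMem (by rw [mB]; exact hab), cB]
      have hclosed : ∀ x ∈ S, insert x (Finset.univ.filter fun y => E x y) = S := by
        intro x hx
        refine Finset.eq_of_subset_of_card_le (fun y hy => ?_) (by
          rw [Finset.card_insert_of_notMem (s := Finset.univ.filter fun y => E x y)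
            (fun h' => hirr x (Finset.mem_filter.1 h').2), hdeg, hScard])
        rcases Finset.mem_insert.1 hy with rfl | hy
        · exact hx
        simp only [Finset.mem_filter, Finset.mem_univ, true_and] at hy
        rcases hall y with h'' | h'' | h''
        · exact h'' ▸ Finset.mem_insert_self _ _
        · exact Finset.mem_insert_of_mem h''
        · exfalso
          rcases Finset.mem_insert.1 hx with rfl | hx
          · exact Finset.disjoint_left.1 hBC ((Ea y).1 hy) h''
          · have h0 := hNC x hx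
            rw [h', Nat.sub_self, Finset.card_eq_zero] at h0
            exact Finset.notMem_empty y (h0 ▸ Finset.mem_filter.2 ⟨h'', hy⟩)
      have hblock : IsBlock ↥G (S : Set Ω) := by
        intro g₁ g₂ hne
        rw [Set.disjoint_left]
        intro y h1 h2
        apply hne
        have key : ∀ g : ↥G, y ∈ g • (S : Set Ω) →
            g • (S : Set Ω) = ((insert y (Finset.univ.filter fun z => E y z) : Finset Ω) : Set Ω) := by
          rintro g ⟨x, hx, rfl⟩
          conv_lhs => rw [← hclosed x hx]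
          ext z
          rw [Set.mem_smul_set_iff_inv_smul_mem]
          simp only [Finset.coe_insert, Set.mem_insert_iff, Finset.coe_filter, Finset.mem_univ, true_and,
            Set.mem_setOf_eq]
          rw [inv_smul_eq_iff, ← Einv g x (g⁻¹ • z), smul_inv_smul]
        rw [key g₁ h1, key g₂ h2]
      have := hblock.ncard_dvd_card ⟨a, Finset.mem_insert_self a B⟩
      rw [Set.ncard_coe_finset, hScard, Nat.card_eq_fintype_card, hΩ] at this
      norm_num at this
  have hlam : lam = 30 := by rw [show lam = T.card from rfl, hT1, card_N1]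
  have hmu : mu = 56 := by rw [hlam] at hcount; omega
  have hBB : ∀ x ∈ Bs, ∀ y ∈ Bs, E (fB x) (fB y) ↔ Adj x y := by
    intro x hx y hy
    obtain ⟨k, rfl⟩ := (mem_Bs_iff x).1 hx
    obtain ⟨z, rfl⟩ := ε.surjective k
    have hy' : (ε z)⁻¹ • y ∈ Bs := (smul_Bs _).2 hy
    rw [show y = ε z • ((ε z)⁻¹ • y) from (smul_inv_smul _ _).symm, fBe z b1 b1_mem, fBe z _ hy', hEH, adj_m]
    have := Finset.ext_iff.1 hT1 ((ε z)⁻¹ • y)
    simp only [T, N1, Finset.mem_filter, hy', true_and] at this
    exact this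
  have hedge : ∀ {x y}, E x y → (Finset.univ.filter fun w => E x w ∧ E y w).card = 30 := by
    rintro _ _ ⟨g, rfl, rfl⟩
    rw [hcnt g (fun w => E a w ∧ E b w) _ fun w => and_congr (Einv g a w) (Einv g b w), ← hlam,
      ← hNB b ((mB b).2 (mem_orbit_self b))]
    exact congrArg Finset.card (Finset.ext fun w => by simp [Ea])
  -- a far point fixed by an element of order seven
  obtain ⟨g7, hg7⟩ := exists_x7 ((stabilizer ↥H c).map ε.toMonoidHom)
    (by have := card_map ε c; rw [hc] at this; omega)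
  set c' : Ω := ε.symm g7⁻¹ • c with hc'def
  have hc'C : c' ∈ C := hCz _ c ((mC c).2 (mem_orbit_self c))
  have hc'x : ε.symm x7 • c' = c' := by
    obtain ⟨y, hy, e⟩ := hg7
    have ey : ε y = g7 * x7 * g7⁻¹ := e
    have : ε.symm x7 * ε.symm g7⁻¹ = ε.symm g7⁻¹ * y := ε.injective (by
      rw [map_mul, map_mul, MulEquiv.apply_symm_apply, MulEquiv.apply_symm_apply, ey]
      group)
    rw [hc'def, ← mul_smul, this, mul_smul, mem_stabilizer_iff.1 hy]
  -- its neighbours meet every line twice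
  let P7 : Pt → Prop := fun i => i ∈ Bs ∧ E c' (fB i)
  have hline : ∀ i < lineRep.length, ((lineF i).filter P7).card = 2 := by
    intro i hi
    obtain ⟨hl4, hlB, hlA⟩ := line_facts hi
    let m : Ω → ℕ := fun w => ((lineF i).filter fun x => E w (fB x)).card
    have hm : ((lineF i).filter P7).card = m c' :=
      congrArg Finset.card (Finset.filter_congr fun x hx => ⟨fun h => h.2, fun h => ⟨hlB x hx, h⟩⟩)
    rw [hm]
    have s1 : ∑ w ∈ C, m w = 324 := by
      have h := Finset.sum_card_bipartiteAbove_eq_sum_card_bipartiteBelow (fun w x => E w (fB x))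
        (s := C) (t := lineF i)
      simp only [Finset.bipartiteAbove, Finset.bipartiteBelow] at h
      show ∑ w ∈ C, ((lineF i).filter fun x => E w (fB x)).card = 324
      rw [h, Finset.sum_congr rfl fun x hx => show (C.filter fun w => E w (fB x)).card = 81 by
        rw [show (81 : ℕ) = 111 - lam by omega, ← hNC (fB x) (hfBB x (hlB x hx))]
        exact congrArg Finset.card (Finset.filter_congr fun w _ => ⟨Esymm, Esymm⟩)]
      rw [Finset.sum_const, hl4]; rfl
    have hpair : ∀ x ∈ lineF i, ∀ y ∈ lineF i,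
        (C.filter fun w => E w (fB x) ∧ E w (fB y)).card = if x = y then 81 else 27 := by
      intro x hx y hy
      split
      · subst x
        rw [show (81 : ℕ) = 111 - lam by omega, ← hNC (fB y) (hfBB y (hlB y hy))]
        exact congrArg Finset.card (Finset.filter_congr fun w _ => ⟨fun h => Esymm h.1, fun h => ⟨Esymm h, Esymm h⟩⟩)
      · rename_i hne
        obtain ⟨hadj, hcom⟩ := hlA x hx y hy hne
        have he := hedge ((hBB x (hlB x hx) y (hlB y hy)).2 hadj)
        rw [hsplit fun w => E (fB x) w ∧ E (fB y) w, if_pos ⟨hEBa _ (hfBB x (hlB x hx)), hEBa _ (hfBB y (hlB y hy))⟩,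
          hBfilter fB fBi hfBB fBs fun w => E (fB x) w ∧ E (fB y) w] at he
        have h2 : (Bs.filter fun z => E (fB x) (fB z) ∧ E (fB y) (fB z)).card = 2 := by
          rw [← hcom]
          exact congrArg Finset.card (Finset.filter_congr fun z hz =>
            and_congr (hBB x (hlB x hx) z hz) (hBB y (hlB y hy) z hz))
        have h3 : (C.filter fun w => E w (fB x) ∧ E w (fB y)).card =
            (C.filter fun w => E (fB x) w ∧ E (fB y) w).card :=
          congrArg Finset.card (Finset.filter_congr fun w _ =>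
            ⟨fun h => ⟨Esymm h.1, Esymm h.2⟩, fun h => ⟨Esymm h.1, Esymm h.2⟩⟩)
        omega
    have s2 : ∑ w ∈ C, m w * m w = 648 := by
      have e : ∀ w, m w * m w = ∑ x ∈ lineF i, ∑ y ∈ lineF i, if E w (fB x) ∧ E w (fB y) then 1 else 0 := by
        intro w
        simp only [m, Finset.card_filter, Finset.sum_mul_sum, ite_and]
        refine Finset.sum_congr rfl fun x _ => Finset.sum_congr rfl fun y _ => ?_
        split <;> simp
      rw [Finset.sum_congr rfl fun w _ => e w, Finset.sum_comm,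
        Finset.sum_congr rfl fun x hx => show (∑ w ∈ C, ∑ y ∈ lineF i, if E w (fB x) ∧ E w (fB y) then 1 else 0) = 162 by
          rw [Finset.sum_comm, Finset.sum_congr rfl fun y hy => show
            (∑ w ∈ C, if E w (fB x) ∧ E w (fB y) then 1 else 0) = (if x = y then 81 else 27) by
              rw [← Finset.card_filter]; exact hpair x hx y hy,
            ← Finset.sum_erase_add _ _ hx, if_pos rfl,
            Finset.sum_congr rfl fun y hy => if_neg (Finset.ne_of_mem_erase hy).symm, Finset.sum_const,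
            Finset.card_erase_of_mem hx, hl4]
          rfl,
        Finset.sum_const, hl4]
      rfl
    have s0 : ∑ w ∈ C, ((m w : ℤ) - 2) * ((m w : ℤ) - 2) = 0 := by
      have e : ∀ w, ((m w : ℤ) - 2) * ((m w : ℤ) - 2) = ((m w * m w : ℕ) : ℤ) - 4 * (m w : ℤ) + 4 := fun w => by
        push_cast; ring
      simp only [e, Finset.sum_add_distrib, Finset.sum_sub_distrib, ← Finset.mul_sum, ← Nat.cast_sum, s1, s2,
        Finset.sum_const, cC]
      norm_num
    have h := (Finset.sum_eq_zero_iff_of_nonneg fun w _ => mul_self_nonneg _).1 s0 c' hc'C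
    have := mul_self_eq_zero.1 h
    omega
  have hP7x : ∀ z, P7 (x7 • z) ↔ P7 z := fun z => by
    show _ ∧ _ ↔ _ ∧ _
    rw [smul_Bs]
    refine and_congr_right fun hz => ?_
    conv_lhs => rw [← ε.apply_symm_apply x7, fBe _ z hz, ← hc'x, hEH]
  obtain ⟨k, hk, hk'⟩ := half_listed P7 hP7x hline
  obtain ⟨π, α, hπB, hπadj, hπα, hπS⟩ := exists_twist hk
  -- the twisted identifications
  set η : ↥H ≃* ↥M0 := ε.trans α.symm
  set fD : Pt → Ω := fun x => fB (π x)
  have fDm : ∀ i ∈ Bs, fD i ∈ B := fun i hi => hfBB _ ((hπB i).2 hi)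
  have fDi : ∀ i ∈ Bs, ∀ j ∈ Bs, fD i = fD j → i = j := fun i hi j hj e =>
    π.injective (fBi _ ((hπB i).2 hi) _ ((hπB j).2 hj) e)
  have fDs : ∀ y ∈ B, ∃ i ∈ Bs, fD i = y := fun y hy => by
    obtain ⟨j, hj, rfl⟩ := fBs y hy
    exact ⟨π.symm j, (hπB _).1 (by rwa [π.apply_symm_apply]), by simp [fD]⟩
  have fDe : ∀ (x : ↥H), ∀ i ∈ Bs, fD (η x • i) = x • fD i := fun x i hi => by
    show fB (π (α.symm (ε x) • i)) = x • fB (π i)
    rw [hπα _ i hi, MulEquiv.apply_symm_apply, fBe x _ ((hπB i).2 hi)]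
  have hDD : ∀ x ∈ Bs, ∀ y ∈ Bs, E (fD x) (fD y) ↔ Adj x y := fun x hx y hy =>
    (hBB _ ((hπB x).2 hx) _ ((hπB y).2 hy)).trans (hπadj x hx y hy)
  have hcD : ∀ y ∈ Bs, E c' (fD y) ↔ Adj c1 y := fun y hy => by
    have := (hk' _ ((hπB y).2 hy)).trans (hπS y hy)
    exact ⟨fun h => this.1 ⟨(hπB y).2 hy, h⟩, fun h => (this.2 h).2⟩
  have hmap : (stabilizer ↥H c').map η.toMonoidHom = stabilizer ↥M0 c1 := by
    refine Subgroup.eq_of_le_of_card_ge ?_ ?_
    · rintro _ ⟨z, hz, rfl⟩
      rw [mem_stabilizer_iff]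
      refine nc_c1 ((smul_Cs _).2 c1_mem) fun y hy => ?_
      have hy' : (η z)⁻¹ • y ∈ Bs := (smul_Bs _).2 hy
      have h1 : Adj (η z • c1) y ↔ Adj c1 ((η z)⁻¹ • y) := by
        rw [← adj_m (η z) c1, smul_inv_smul]
      show Adj (η z • c1) y ↔ _
      rw [h1, ← hcD _ hy', ← hcD y hy, ← hEH z c', mem_stabilizer_iff.1 hz, ← fDe z _ hy', smul_inv_smul]
    · have h1 := card_map η c'
      have h2 := (stabilizer ↥M0 c1).card_mul_index
      rw [index_stabilizer, show orbit ↥M0 c1 = ↑Cs from Set.ext fun y => (mem_Cs_iff y).symm,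
        Set.ncard_coe_finset, card_Cs, natCard_M0] at h2
      rw [orbit_eq_iff.2 ((mC c').1 hc'C), hc] at h1
      omega
  obtain ⟨fS, fSi, fSr, fSe, fS0⟩ := exists_equivariant η c' mem_Cs_iff hmap
  have hfSC : ∀ i ∈ Cs, fS i ∈ C := fun i hi => by
    rw [mC, ← orbit_eq_iff.2 ((mC c').1 hc'C)]
    exact (fSr _).2 ⟨i, hi, rfl⟩
  have hSD : ∀ x ∈ Cs, ∀ y ∈ Bs, E (fS x) (fD y) ↔ Adj x y := by
    intro x hx y hy
    obtain ⟨k, rfl⟩ := (mem_Cs_iff x).1 hx
    obtain ⟨z, rfl⟩ := η.surjective k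
    have hy' : (η z)⁻¹ • y ∈ Bs := (smul_Bs _).2 hy
    rw [show y = η z • ((η z)⁻¹ • y) from (smul_inv_smul _ _).symm, fSe z c1 c1_mem, fDe z _ hy', hEH, adj_m, fS0]
    exact hcD _ hy'
  have hS1 : ∀ i ∈ Cs, E c' (fS i) ↔ Adj c1 i := by
    set U := Cs.filter fun i => E c' (fS i)
    have hsub : U ⊆ Cs.filter fun i => Adj c1 i := by
      intro i hi
      simp only [U, Finset.mem_filter] at hi ⊢
      refine ⟨hi.1, ?_⟩
      by_contra hna
      have hne : i ≠ c1 := fun e => hirr c' (by have := hi.2; rwa [e, fS0] at this)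
      have h32 := (com_far hi.1 hne).2 hna
      have h30 := hedge hi.2
      have hle : (com c1 i).card ≤ 30 := by
        rw [← h30]
        refine Finset.card_le_card_of_injOn fD (fun z hz => ?_) (fun z hz z' hz' e => ?_)
        · simp only [Finset.mem_coe, com, Finset.mem_filter] at hz
          simp only [Finset.mem_coe, Finset.mem_filter, Finset.mem_univ, true_and]
          exact ⟨(hcD z hz.1).2 hz.2.1, (hSD i hi.1 z hz.1).2 hz.2.2⟩
        · exact fDi z (Finset.mem_filter.1 hz).1 z' (Finset.mem_filter.1 hz').1 e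
      omega
    have hUc : U.card = 56 := by
      have h := hsplit fun y => E c' y
      rw [hdeg, if_neg (fun h' => Finset.disjoint_left.1 hBC ((Ea c').1 (Esymm h')) hc'C),
        hNcB c' hc'C, hmu] at h
      have e : (C.filter fun y => E c' y).card = U.card := by
        refine (Finset.card_bij (fun y _ => fS y) (fun y hy => ?_) (fun y hy y' hy' e => ?_) fun y hy => ?_).symm
        · simp only [U, Finset.mem_filter] at hy ⊢; exact ⟨hfSC y hy.1, hy.2⟩
        · exact fSi y (Finset.mem_filter.1 hy).1 y' (Finset.mem_filter.1 hy').1 e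
        · simp only [Finset.mem_filter] at hy
          have h1 : y ∈ orbit ↥H c' := by rw [orbit_eq_iff.2 ((mC c').1 hc'C)]; exact (mC y).1 hy.1
          obtain ⟨j, hj, rfl⟩ := (fSr y).1 h1
          exact ⟨j, Finset.mem_filter.2 ⟨hj, hy.2⟩, rfl⟩
      omega
    have := Finset.eq_of_subset_of_card_le hsub (by rw [hUc, card_far.2])
    intro i hi
    have h := Finset.ext_iff.1 this i
    simp only [U, Finset.mem_filter, hi, true_and] at h
    exact h
  have hSS' : ∀ x ∈ Cs, ∀ y ∈ Cs, E (fS x) (fS y) ↔ Adj x y := by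
    intro x hx y hy
    obtain ⟨k, rfl⟩ := (mem_Cs_iff x).1 hx
    obtain ⟨z, rfl⟩ := η.surjective k
    have hy' : (η z)⁻¹ • y ∈ Cs := (smul_Cs _).2 hy
    rw [show y = η z • ((η z)⁻¹ • y) from (smul_inv_smul _ _).symm, fSe z c1 c1_mem, fSe z _ hy', hEH, adj_m, fS0]
    exact hS1 _ hy'
  -- the identification of the points
  let f : Pt → Ω := fun x => if x ∈ Bs then fD x else if x ∈ Cs then fS x else a
  have hdis : ∀ i, i ∈ Cs → i ∉ Bs := fun i hi hi' => (mem_Cs.1 hi).2 (mem_Bs.1 hi')
  have f0 : f p0 = a := by simp [f, p0_notMem.1, p0_notMem.2]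
  have fD' : ∀ i ∈ Bs, f i = fD i := fun i hi => by simp [f, hi]
  have fS' : ∀ i ∈ Cs, f i = fS i := fun i hi => by simp [f, hi, hdis i hi]
  have finj : Function.Injective f := by
    intro x y h
    rcases pt_cases x with rfl | hx | hx <;> rcases pt_cases y with rfl | hy | hy
    · rfl
    · rw [f0, fD' y hy] at h; exact absurd ((mB a).1 (h ▸ fDm y hy)) hab
    · rw [f0, fS' y hy] at h; exact absurd ((mC a).1 (h ▸ hfSC y hy)) hac
    · rw [f0, fD' x hx] at h; exact absurd ((mB a).1 (h.symm ▸ fDm x hx)) hab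
    · rw [fD' x hx, fD' y hy] at h; exact fDi x hx y hy h
    · rw [fD' x hx, fS' y hy] at h; exact absurd (h ▸ hfSC y hy) (Finset.disjoint_left.1 hBC (fDm x hx))
    · rw [f0, fS' x hx] at h; exact absurd ((mC a).1 (h.symm ▸ hfSC x hx)) hac
    · rw [fS' x hx, fD' y hy] at h; exact absurd (h.symm ▸ hfSC x hx) (Finset.disjoint_left.1 hBC (fDm y hy))
    · rw [fS' x hx, fS' y hy] at h; exact fSi x hx y hy h
  let L : Pt ≃ Ω := Equiv.ofBijective f ((Fintype.bijective_iff_injective_and_card f).2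
    ⟨finj, by rw [hΩ, Fintype.card_fin]⟩)
  have Le : ∀ (z : ↥H) (i : Pt), L (η z • i) = z • L i := fun z i => by
    show f _ = z • f i
    rcases pt_cases i with rfl | hi | hi
    · rw [m0_fix, f0, hfixa]
    · rw [fD' i hi, fD' _ ((smul_Bs _).2 hi), fDe z i hi]
    · rw [fS' i hi, fS' _ ((smul_Cs _).2 hi), fSe z i hi]
  have E0 : ∀ y, E (f p0) (f y) ↔ Adj p0 y := fun y => by
    rw [f0, Ea, ← mem_Bs]
    rcases pt_cases y with rfl | hy | hy
    · rw [f0, mB]; exact iff_of_false hab p0_notMem.1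
    · rw [fD' y hy]; exact iff_of_true (fDm y hy) hy
    · rw [fS' y hy]; exact iff_of_false (fun h => Finset.disjoint_left.1 hBC h (hfSC y hy)) (hdis y hy)
  have hEiff : ∀ x y, E x y ↔ E y x := fun x y => ⟨Esymm, Esymm⟩
  have hR : ∀ x y, E (L x) (L y) ↔ Adj x y := by
    intro x y
    show E (f x) (f y) ↔ _
    rcases pt_cases x with rfl | hx | hx
    · exact E0 y
    all_goals rcases pt_cases y with rfl | hy | hy
    · rw [hEiff, adj_comm]; exact E0 _
    · rw [fD' x hx, fD' y hy]; exact hDD x hx y hy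
    · rw [fD' x hx, fS' y hy, hEiff, adj_comm]; exact hSD y hy x hx
    · rw [hEiff, adj_comm]; exact E0 _
    · rw [fS' x hx, fD' y hy]; exact hSD x hx y hy
    · rw [fS' x hx, fS' y hy]; exact hSS' x hx y hy
  let ψ : Equiv.Perm Ω →* Equiv.Perm Pt := L.symm.permCongrHom.toMonoidHom
  have hψ : ∀ (g : Equiv.Perm Ω) x, ψ g x = L.symm (g (L x)) := fun g x => by
    simp [ψ, Equiv.permCongrHom, Equiv.permCongr_apply]
  set A := G.map ψ
  have hA : A ≤ AutR := by
    rintro _ ⟨g, hg, rfl⟩ x y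
    rw [← hR, ← hR, hψ, hψ, L.apply_symm_apply, L.apply_symm_apply]
    exact Einv (⟨g, hg⟩ : ↥G) _ _
  have hM : M0 ≤ A := by
    intro m hm
    obtain ⟨z, hz⟩ := η.surjective ⟨m, hm⟩
    refine ⟨z.1.1, z.1.2, Equiv.ext fun x => ?_⟩
    rw [hψ, L.symm_apply_eq]
    have := Le z x
    rw [hz] at this
    exact this.symm
  have hGA : ↥G ≃* ↥A := G.equivMapOfInjective ψ L.symm.permCongrHom.injective
  have hcardA : Nat.card ↥A = 898128000 := by
    rw [← Nat.card_congr hGA.toEquiv]
    have h := H.card_mul_index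
    rw [show H.index = Nat.card Ω from index_stabilizer_of_transitive G a,
      Nat.card_eq_fintype_card (α := Ω), hΩ, Nat.card_congr ε.toEquiv, natCard_M0] at h
    omega
  exact ⟨hGA.trans (MulEquiv.subgroupCongr (eq_SS hA hM hcardA))⟩

end CfsgLib.McLRec
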