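import Cfsg.Agent.Lib.McLRec.Sub
import Cfsg.Agent.Lib.McLRec.ChkHalf
import Cfsg.Agent.Lib.McLRec.ChkPi

/-!
Halves of the near points invariant under the element of order seven and meeting each line twice.
-/

set_option autoImplicit false
set_option maxRecDepth 30000

namespace CfsgLib.McLRec

open Cfsg CfsgLib.CosetEnum CfsgLib.M24.PackChain MulAction

attribute [local irreducible] rows hT mProg lineRep lineC cands piP piI piW

/-- the points of a line -/
noncomputable def lineF (i : ℕ) : Finset Pt := Finset.univ.filter fun x => (x : ℕ) ∈ lineRep.getD i []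

theorem line_facts {i : ℕ} (hi : i < lineRep.length) : (lineF i).card = 4 ∧ (∀ x ∈ lineF i, x ∈ Bs) ∧
    ∀ x ∈ lineF i, ∀ y ∈ lineF i, x ≠ y → Adj x y ∧ (com x y).card = 2 := by
  have h := line_chk
  simp only [lineOK, Bool.and_eq_true, List.all_eq_true, List.mem_range, Nat.beq_eq, Bool.or_eq_true,
    decide_eq_true_eq] at h
  obtain ⟨⟨⟨hl, hn⟩, -⟩, hall⟩ := h.2 i hi
  refine ⟨?_, fun x hx => ?_, fun x hx y hy hne => ?_⟩
  · rw [← hl, ← List.toFinset_card_of_nodup hn]
    refine Finset.card_bij (fun x _ => (x : ℕ)) (fun x hx => ?_) (fun a _ b _ e => Fin.ext e) fun n hn' => ?_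
    · simp only [lineF, Finset.mem_filter] at hx; exact List.mem_toFinset.2 hx.2
    · rw [List.mem_toFinset] at hn'
      have := (nearB_iff.1 (hall n hn').1).2
      exact ⟨⟨n, by omega⟩, by simpa [lineF] using hn', rfl⟩
  · simp only [lineF, Finset.mem_filter] at hx
    exact mem_Bs'.2 (hall x hx.2).1
  · simp only [lineF, Finset.mem_filter] at hx hy
    rcases (hall x hx.2).2 y hy.2 with e | ⟨ha, hc⟩
    · exact absurd (Fin.ext e) hne
    · exact ⟨ha, by rw [card_com]; exact hc⟩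

theorem cyc_spec {z : Pt} (hz : z ∈ Bs) : nth cycOf z 0 < 16 ∧
    itP (nth hT 1 0) (nth cycK z 0) (nth cycRep (nth cycOf z 0) 0) = z := by
  have h := List.all_eq_true.1 cyc_chk z (List.mem_range.2 z.2)
  simp only [Bool.or_eq_true, Bool.not_eq_true', Bool.and_eq_true, ltB_iff, Nat.beq_eq] at h
  rcases h with h | h
  · rw [mem_Bs'.1 hz] at h; exact absurd h Bool.noConfusion
  · exact h

/-- A half meeting every line twice and invariant under the element of order seven is listed. -/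
theorem half_listed (T : Pt → Prop) [DecidablePred T] (hx : ∀ z, T (x7 • z) ↔ T z)
    (hl : ∀ i < lineRep.length, ((lineF i).filter T).card = 2) :
    ∃ k < 4, ∀ z ∈ Bs, T z ↔ (nth cands k 0).testBit (nth cycOf z 0) = true := by
  classical
  have hrep : ∀ i < 16, nth cycRep i 0 < 275 := by decide +kernel
  let f : Fin 16 → Bool := fun i => decide (T ⟨nth cycRep i 0, hrep i i.2⟩)
  have hpow : ∀ (n : ℕ) z, T (x7 ^ n • z) ↔ T z := fun n z => by
    induction n with
    | zero => simp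
    | succ n ih => rw [pow_succ', mul_smul, hx, ih]
  set N := Nat.ofBits f
  have hN : ∀ z ∈ Bs, T z ↔ N.testBit (nth cycOf z 0) = true := by
    intro z hz
    obtain ⟨hc, hk⟩ := cyc_spec hz
    have e : N.testBit (nth cycOf z 0) = f ⟨nth cycOf z 0, hc⟩ := by
      simp [N, Nat.testBit_ofBits, hc]
    rw [e, decide_eq_true_eq, ← hpow (nth cycK z 0) ⟨nth cycRep (nth cycOf z 0) 0, hrep _ hc⟩]
    exact Eq.to_iff (congrArg T (Fin.ext ((x7_it _ _).trans hk)).symm)
  have hgood : ∀ l ∈ lineC, halfLine N l = true := by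
    intro l hl'
    have h := line_chk
    simp only [lineOK, Bool.and_eq_true, List.all_eq_true, List.mem_range, Nat.beq_eq, decide_eq_true_eq,
      beq_iff_eq] at h
    obtain ⟨i, hi, rfl⟩ := List.mem_iff_getElem.1 hl'
    obtain ⟨⟨⟨-, hn⟩, hm⟩, hall⟩ := h.2 i (h.1.symm ▸ hi)
    rw [List.getD_eq_getElem _ _ hi] at hm
    rw [halfLine, Nat.beq_eq, hm, List.countP_map, ← hl i (h.1.symm ▸ hi), List.countP_eq_length_filter,
      ← List.toFinset_card_of_nodup (hn.filter _)]
    refine Eq.symm ?_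
    refine Finset.card_bij (fun x _ => (x : ℕ)) (fun x hx => ?_) (fun a _ b _ e => Fin.ext e) fun n hn' => ?_
    · simp only [Finset.mem_filter, lineF, Finset.mem_univ, true_and] at hx
      simp only [List.mem_toFinset, List.mem_filter, Function.comp_apply]
      exact ⟨hx.1, (hN x (mem_Bs'.2 (hall x hx.1).1)).1 hx.2⟩
    · simp only [List.mem_toFinset, List.mem_filter, Function.comp_apply] at hn'
      have := (nearB_iff.1 (hall n hn'.1).1).2
      refine ⟨⟨n, by omega⟩, ?_, rfl⟩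
      simp only [Finset.mem_filter, lineF, Finset.mem_univ, true_and]
      exact ⟨hn'.1, (hN _ (mem_Bs'.2 (hall n hn'.1).1)).2 hn'.2⟩
  have hlt : N < 2 ^ 16 := Nat.ofBits_lt_two_pow f
  have h := allUp_spec half_chk N (Nat.zero_le _) (by omega)
  simp only [halfAt, strict_eq] at h
  rw [show lineC.all (halfLine N) = true from List.all_eq_true.2 hgood, pick_true, List.any_eq_true] at h
  obtain ⟨c, hc, e⟩ := h
  obtain ⟨k, hk, rfl⟩ := List.mem_iff_getElem.1 hc
  refine ⟨k, cands_len.1 ▸ hk, fun z hz => ?_⟩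
  rw [nth_eq, List.getD_eq_getElem _ _ hk, ← Nat.eq_of_beq_eq_true e]
  exact hN z hz

/-- The halves are moved to one another by automorphisms of the stabilizer. -/
theorem exists_twist {k : ℕ} (hk : k < 4) : ∃ (π : Pt ≃ Pt) (α : ↥M0 ≃* ↥M0),
    (∀ x, π x ∈ Bs ↔ x ∈ Bs) ∧ (∀ x ∈ Bs, ∀ y ∈ Bs, Adj (π x) (π y) ↔ Adj x y) ∧
    (∀ (m : ↥M0), ∀ x ∈ Bs, π (m • x) = α m • π x) ∧
    ∀ x ∈ Bs, (nth cands k 0).testBit (nth cycOf (π x) 0) = true ↔ Adj c1 x := by
  classical
  have h := List.all_eq_true.1 pi_chk k (List.mem_range.2 hk)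
  simp only [piAt, strict_eq, Bool.and_eq_true, List.all_eq_true, List.mem_range, ltB_iff, Nat.beq_eq,
    Bool.or_eq_true, Bool.not_eq_true', beq_iff_eq, Nat.blt_eq] at h
  obtain ⟨hperm, hB⟩ := h
  set P := nth piP k 0
  set Q := nth piI k 0
  let π : Pt ≃ Pt :=
    { toFun := fun x => ⟨pk P x, (hperm x x.2).1.1.1.1⟩
      invFun := fun x => ⟨pk Q x, (hperm x x.2).1.1.1.2⟩
      left_inv := fun x => Fin.ext (hperm x x.2).1.1.2
      right_inv := fun x => Fin.ext (hperm x x.2).1.2 }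
  have hπB : ∀ x, π x ∈ Bs ↔ x ∈ Bs := fun x => by
    rw [mem_Bs', mem_Bs']; exact Eq.congr_left (hperm x x.2).2
  have hBx : ∀ x ∈ Bs, _ := fun (x : Pt) hx => (hB x x.2).resolve_left (by
    rw [mem_Bs'.1 hx]; exact Bool.noConfusion)
  have hadj : ∀ x ∈ Bs, ∀ y ∈ Bs, Adj (π x) (π y) ↔ Adj x y := fun x hx y hy => by
    have := (hBx x hx).2 y (by have := (nearB_iff.1 (mem_Bs'.1 hy)).2; omega)
    rw [mem_Bs'.1 hy] at this
    exact Eq.congr_left (this.resolve_left Bool.noConfusion)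
  -- the elements intertwined
  have hone : ∀ m : ↥M0, (∀ y ∈ Bs, m • y = y) → m = 1 := fun m hm =>
    Subtype.ext (eq_one_of_fix (SS_le m.2.1) m.2.2 hm)
  let N : Subgroup ↥M0 :=
    { carrier := {m | ∃ m' : ↥M0, ∀ x ∈ Bs, π (m • x) = m' • π x}
      one_mem' := ⟨1, fun x _ => by rw [one_smul, one_smul]⟩
      mul_mem' := by
        rintro a b ⟨a', ha⟩ ⟨b', hb⟩
        exact ⟨a' * b', fun x hx => by rw [mul_smul, mul_smul, ha _ ((smul_Bs b).2 hx), hb x hx]⟩
      inv_mem' := by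
        rintro a ⟨a', ha⟩
        refine ⟨a'⁻¹, fun x hx => ?_⟩
        rw [eq_inv_smul_iff, ← ha _ ((smul_Bs a⁻¹).2 hx), smul_inv_smul] }
  have hN : N = ⊤ := by
    rw [eq_top_iff, ← hg_top, Subgroup.closure_le]
    rintro _ ⟨j, rfl⟩
    obtain ⟨hw, -⟩ := (hBx b1 b1_mem).1.2 j j.2
    obtain ⟨m, hm⟩ := exists_mel _ hw
    refine ⟨m, fun x hx => Fin.ext ?_⟩
    rw [hm]
    show pk P (hg j • x : Pt) = pk _ (pk P x)
    rw [show ((hg j • x : Pt) : ℕ) = _ from hg_packed.2 j x]
    exact ((hBx x hx).1.2 j j.2).2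
  have hall : ∀ m : ↥M0, ∃ m' : ↥M0, ∀ x ∈ Bs, π (m • x) = m' • π x := fun m =>
    show m ∈ N by rw [hN]; exact Subgroup.mem_top m
  choose α hα using hall
  have huniq : ∀ a b : ↥M0, (∀ x ∈ Bs, a • π x = b • π x) → a = b := fun a b e =>
    inv_mul_eq_one.1 (hone (b⁻¹ * a) fun y hy => by
      obtain ⟨x, rfl⟩ := π.surjective y
      rw [mul_smul, e x ((hπB x).1 hy), inv_smul_smul]) |>.symm
  have hmul : ∀ a b, α (a * b) = α a * α b := fun a b => huniq _ _ fun x hx => by
    rw [← hα _ x hx, mul_smul, mul_smul, hα a _ ((smul_Bs b).2 hx), hα b x hx]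
  have hinj : Function.Injective (MonoidHom.mk' α hmul) := fun a b e => by
    refine inv_mul_eq_one.1 (hone (b⁻¹ * a) fun y hy => ?_) |>.symm
    rw [mul_smul, inv_smul_eq_iff]
    refine π.injective ?_
    rw [hα a y hy, hα b y hy]
    exact congrArg (· • π y) e
  refine ⟨π, MulEquiv.ofBijective (MonoidHom.mk' α hmul)
    ((Nat.bijective_iff_injective_and_card _).2 ⟨hinj, rfl⟩), hπB, hadj, fun m x hx => hα m x hx, fun x hx => ?_⟩
  exact Eq.congr_left (hBx x hx).1.1

end CfsgLib.McLRec
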