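import Cfsg.Agent.Lib.UFour.Model
import Cfsg.Agent.Lib.UFour.Mult
import Cfsg.Agent.Lib.LeechIso.Engine
import Cfsg.Agent.Lib.LeechIso.DataU4

/-!
The orthogonal permutation model of the unitary group in dimension four over nine elements
(a copy of the corresponding part of the shared model file, to keep the import closure small).
-/

set_option autoImplicit false
set_option maxRecDepth 30000

namespace CfsgLib.McLRec

open Cfsg CfsgLib.CosetEnum CfsgLib.M24.PackChain CfsgLib.LeechIso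

theorem u4Tab : U4.Q0.length = 2 ∧ ∀ j : Fin 2, (List.range 126).all (fun i =>
    Nat.beq (CfsgLib.Schur.PermTable.ap (CfsgLib.UFour.uElts.P j) i) (pk (nth U4.Q0 j 0) i)) = true := by
  decide +kernel

/-- The orthogonal model of `PSU 4 K 3` for a field of nine elements. -/
theorem model_u4 {K : Type} [Field K] [Fintype K] (hK : Fintype.card K = 9) :
    Nat.card (PSU 4 K 3) = 3265920 ∧ IsSimpleGroup (PSU 4 K 3) ∧
      ∃ (ψ : PSU 4 K 3 →* Equiv.Perm (Fin 126)) (X : Fin 2 → PSU 4 K 3), Packed ψ X U4.Q0 := by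
  obtain ⟨e⟩ := CfsgLib.Classical.KleinSix.pomega_six_minus (F := CfsgLib.UFour.F3) (K := K) (q := 3) (ZMod.card 3)
    (by rw [hK]; rfl) 0 1 CfsgLib.UFour.hab
  obtain ⟨hcard, -⟩ := CfsgLib.UFour.unitary_part hK
  obtain ⟨ρ, hρ⟩ := CfsgLib.UFour.exists_action
  obtain ⟨C⟩ := CfsgLib.Classical.Herm.exists_conj_of_card (F := K) (q := 3) (by rw [hK]; norm_num)
  have := Fact.mk Nat.prime_three
  have := CfsgLib.AutPSL.charP_of_card (F := K) (p := 3) (f := 2) (by rw [hK]; norm_num)
  refine ⟨hcard, CfsgLib.Classical.Herm.isSimpleGroup C 3 (by norm_num) (by norm_num),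
    ρ.comp e.symm.toMonoidHom, fun j => e (CfsgLib.UFour.X j), u4Tab.1, fun j i => ?_⟩
  show ((ρ (e.symm (e (CfsgLib.UFour.X j))) i : Fin 126) : ℕ) = _
  rw [e.symm_apply_apply, hρ j i]
  have h := List.all_eq_true.1 (u4Tab.2 j) i (List.mem_range.2 i.2)
  exact Nat.eq_of_beq_eq_true h

end CfsgLib.McLRec
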