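import Cfsg.Agent.Lib.McLRec.ChkBasic
import Cfsg.Agent.Lib.McLRec.ChkChain
import Cfsg.Agent.Lib.McLRec.ChkCount
import Cfsg.Agent.Lib.McLMult.Action
import Cfsg.Agent.Lib.McLMult.Mult
import Cfsg.Agent.Lib.McLRec.U4Model
import Cfsg.Agent.Lib.LeechIso.ChkU4Words
import Cfsg.Agent.Lib.LeechIso.ChkU4ChainM
import Cfsg.Agent.S2073

/-!
McL on 275 points with its graph, and the stabilizer of a point as `PSU₄(3)`.
-/

set_option autoImplicit false
set_option maxRecDepth 30000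

namespace CfsgLib.McLRec

open Cfsg CfsgLib.CosetEnum CfsgLib.M24.PackChain MulAction

attribute [local irreducible] rows labP labI genT hProg mProg mLev treeAll treeC tree30

/-- the points -/
abbrev Pt : Type := Fin 275

/-- the base point -/
def p0 : Pt := 0

/-- a near point -/
def b1 : Pt := 1

/-- a far point -/
def c1 : Pt := 113

theorem lab_spec {i : ℕ} (hi : i < 275) : pk labP i < 275 ∧ pk labI i < 275 ∧ pk labI (pk labP i) = i ∧
    pk labP (pk labI i) = i ∧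
      ∀ j < 4, pk (nth genT j 0) (pk labP i) = pk labP (CfsgLib.McLMult.fwdP j i) := by
  have h := List.all_eq_true.1 lab_chk i (List.mem_range.2 hi)
  simp only [Bool.and_eq_true, List.all_eq_true, List.mem_range, Nat.beq_eq, ltB_iff] at h
  obtain ⟨⟨⟨⟨h1, h2⟩, h3⟩, h4⟩, h5⟩ := h
  exact ⟨h1, h2, h3, h4, h5⟩

/-- the change of labels -/
noncomputable def relabel : Pt ≃ Pt where
  toFun i := ⟨pk labP i, (lab_spec i.2).1⟩
  invFun i := ⟨pk labI i, (lab_spec i.2).2.1⟩
  left_inv i := Fin.ext (lab_spec i.2).2.2.1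
  right_inv i := Fin.ext (lab_spec i.2).2.2.2.1

/-- McL on the points -/
noncomputable def rho : ↥CfsgLib.McLMult.G →* Equiv.Perm Pt :=
  relabel.permCongrHom.toMonoidHom.comp CfsgLib.McLMult.exists_action.choose

theorem rho_apply {j : ℕ} (hj : j < 4) (x : Pt) :
    ((rho (CfsgLib.McLMult.X j) x : Pt) : ℕ) = pk (nth genT j 0) x := by
  obtain ⟨i, rfl⟩ := relabel.surjective x
  have h := CfsgLib.McLMult.exists_action.choose_spec j hj i
  show ((relabel.permCongr _ (relabel i) : Pt) : ℕ) = _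
  rw [Equiv.permCongr_apply, Equiv.symm_apply_apply]
  show pk labP _ = pk _ (pk labP (i : ℕ))
  rw [h, (lab_spec i.2).2.2.2.2 j hj]

theorem rho_injective : Function.Injective rho := by
  obtain ⟨hg2, himg, hprod⟩ := CfsgLib.McLMult.gensG
  simp only [List.all_eq_true, List.mem_range, Bool.and_eq_true, Nat.beq_eq] at himg
  haveI := CfsgLib.McLMult.finite_G
  have hinj : Function.Injective CfsgLib.McLMult.exists_action.choose :=
    (CfsgLib.Schur.MonoCover.Data.chain_generates CfsgLib.McLMult.validG _ CfsgLib.McLMult.X (fun g hg i => by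
      have hg' := hg2 g hg
      interval_cases g
      · exact (CfsgLib.McLMult.exists_action.choose_spec 0 (by norm_num) i).trans (himg i i.isLt).1.1.1.symm
      · exact (CfsgLib.McLMult.exists_action.choose_spec 1 (by norm_num) i).trans (himg i i.isLt).1.1.2.symm)
    (by rw [CfsgLib.McLMult.natCard_G, hprod])).2
  exact relabel.permCongrHom.injective.comp hinj

/-- the model of McL -/
noncomputable def SS : Subgroup (Equiv.Perm Pt) := rho.range

theorem natCard_SS : Nat.card ↥SS = 898128000 := by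
  rw [SS, ← Nat.card_congr (MonoidHom.ofInjective rho_injective).toEquiv, CfsgLib.McLMult.natCard_G]

theorem SS_equiv : Nonempty (↥SS ≃* ↥Cfsg.Spor.McL) := by
  obtain ⟨e⟩ := Cfsg.Agent.S2073.exists_equiv
  exact ⟨(MonoidHom.ofInjective rho_injective).symm.trans e⟩

/-- adjacency -/
def Adj (x y : Pt) : Prop := rowB x y = true

noncomputable instance : DecidableRel Adj := fun x y => inferInstanceAs (Decidable (rowB x y = true))

theorem graph_spec (x : Pt) : ¬ Adj x x ∧ (Adj p0 x ↔ nearB x = true) := by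
  have h := List.all_eq_true.1 graph_chk x (List.mem_range.2 x.2)
  simp only [Bool.and_eq_true, Bool.not_eq_true', strict_eq] at h
  refine ⟨fun e => by unfold Adj at e; rw [h.1.1] at e; exact Bool.false_ne_true e, ?_⟩
  have e := eq_of_beq h.1.2
  exact Eq.congr_left e

theorem adj_comm (x y : Pt) : Adj x y ↔ Adj y x := by
  have key : ∀ a b : Pt, (b : ℕ) < a → rowB a b = rowB b a := fun a b hab => by
    have h := List.all_eq_true.1 graph_chk a (List.mem_range.2 a.2)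
    simp only [Bool.and_eq_true, strict_eq, List.all_eq_true, List.mem_range, beq_iff_eq] at h
    exact h.2 b hab
  rcases Nat.lt_trichotomy (x : ℕ) y with h | h | h
  · exact Eq.congr_left (key y x h).symm
  · rw [Fin.ext h]
  · exact Eq.congr_left (key x y h)

/-- the automorphisms of the graph -/
def AutR : Subgroup (Equiv.Perm Pt) where
  carrier := {g | ∀ x y, Adj (g x) (g y) ↔ Adj x y}
  one_mem' := fun _ _ => Iff.rfl
  mul_mem' := fun {g h} hg hh x y => (hg (h x) (h y)).trans (hh x y)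
  inv_mem' := fun {g} hg x y => by
    refine (hg (g⁻¹ x) (g⁻¹ y)).symm.trans ?_
    simp

theorem SS_le : SS ≤ AutR := by
  haveI := CfsgLib.McLMult.finite_G
  rw [SS, MonoidHom.range_eq_map, ← CfsgLib.McLMult.closure_gens, MonoidHom.map_closure, Subgroup.closure_le]
  rintro _ ⟨s, ⟨j, hj, rfl⟩, rfl⟩ x y
  have hat : allUp (autAt (nth genT j 0)) 9 0 = true := by
    interval_cases j
    exacts [aut_chk.1, aut_chk.2]
  have h := allUp_spec hat x (Nat.zero_le _) (by have := x.2; omega)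
  simp only [autAt, strict_eq, show ltB (x : ℕ) 275 = true from ltB_iff.mpr x.2, pick_true,
    List.all_eq_true, List.mem_range, beq_iff_eq] at h
  show rowB _ _ = true ↔ rowB _ _ = true
  rw [rho_apply (by omega) x, rho_apply (by omega) y]
  exact Eq.congr_left (h y y.2)

theorem smul_eq {K : Subgroup (Equiv.Perm Pt)} (g : ↥K) (x : Pt) : g • x = (g : Equiv.Perm Pt) x := rfl

theorem adj_smul {g : Equiv.Perm Pt} (hg : g ∈ SS) (x y : Pt) : Adj (g x) (g y) ↔ Adj x y := SS_le hg x y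

/-! ### The stabilizer -/

/-- the stabilizer of the base point -/
noncomputable def M0 : Subgroup (Equiv.Perm Pt) := SS ⊓ stabilizer (Equiv.Perm Pt) p0

theorem gen_good : ∀ i < (vals genT hProg).length,
    ∃ g ∈ SS, ∀ x : Pt, ((g x : Pt) : ℕ) = pk (nth (vals genT hProg) i 0) x := by
  have h := h_chk
  simp only [hOK, Bool.and_eq_true, Nat.beq_eq] at h
  obtain ⟨⟨⟨⟨hp, hl⟩, -⟩, -⟩, -⟩ := h
  intro i hi
  obtain ⟨g, hg, -⟩ := prog_good (φ := rho) (χ := 1) (by norm_num) hProg genT (List.replicate genT.length 0)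
    (by simp) hp (fun k hk => ⟨CfsgLib.McLMult.X k, fun x => rho_apply (by omega) x, by
      have : (List.replicate genT.length 0).getD k 0 = 0 := by simp [List.getD_eq_getElem?_getD, hk]
      rw [this]; rfl⟩) i hi
  exact ⟨rho g, ⟨g, rfl⟩, hg⟩

theorem hT_len : hT.length = 2 := by
  have h := h_chk
  simp only [hOK, Bool.and_eq_true, Nat.beq_eq] at h
  exact h.1.2

theorem exists_hg (k : Fin 2) : ∃ g : ↥M0, ∀ x : Pt, (((g : Equiv.Perm Pt) x : Pt) : ℕ) = pk (nth hT k 0) x := by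
  have h := h_chk
  simp only [hOK, Bool.and_eq_true, Nat.beq_eq, List.all_eq_true, List.mem_range, Nat.blt_eq] at h
  obtain ⟨⟨h1, h2⟩, h3⟩ := h.2 k k.2
  obtain ⟨g, hg, e⟩ := gen_good _ h1
  refine ⟨⟨g, hg, ?_⟩, fun x => by rw [← h2]; exact e x⟩
  show g p0 = p0
  refine Fin.ext ?_
  rw [e p0, h2]
  exact h3

/-- the two generators of the stabilizer -/
noncomputable def hg (k : Fin 2) : ↥M0 := (exists_hg k).choose

theorem hg_packed : CfsgLib.LeechIso.Packed M0.subtype hg hT :=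
  ⟨hT_len, fun k x => (exists_hg k).choose_spec x⟩

theorem exists_mel : ∀ i < (vals hT mProg).length,
    ∃ m : ↥M0, ∀ x : Pt, ((m • x : Pt) : ℕ) = pk (nth (vals hT mProg) i 0) x := by
  have h := chain_chk
  simp only [CfsgLib.LeechIso.chainOK, Bool.and_eq_true] at h
  intro i hi
  obtain ⟨g, hg', -⟩ := prog_good (φ := M0.subtype) (χ := 1) (by norm_num) mProg hT (List.replicate hT.length 0)
    (by simp) h.1.1.1.2 (fun k hk => ⟨hg ⟨k, hT_len ▸ hk⟩, fun x => hg_packed.2 ⟨k, hT_len ▸ hk⟩ x, by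
      have : (List.replicate hT.length 0).getD k 0 = 0 := by simp [List.getD_eq_getElem?_getD, hk]
      rw [this]; rfl⟩) i hi
  exact ⟨g, hg'⟩

theorem mem_M0 {g : Equiv.Perm Pt} : g ∈ M0 ↔ g ∈ SS ∧ g p0 = p0 := Iff.rfl

theorem m0_fix (m : ↥M0) : m • p0 = p0 := m.2.2

theorem adj_m (m : ↥M0) (x y : Pt) : Adj (m • x) (m • y) ↔ Adj x y := adj_smul m.2.1 x y

/-- orbits from trees -/
theorem tree_orbit {K : Subgroup (Equiv.Perm Pt)} {vs : List ℕ} {b : Pt} {t : List (ℕ × ℕ)}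
    (h : treeOK vs b t = true)
    (hK : ∀ e ∈ t, e.2 < vs.length → ∃ σ ∈ K, ∀ x : Pt, (σ x : ℕ) = pk (nth vs e.2 0) x)
    {D : Finset Pt} (hD : ∀ k ∈ K, k b ∈ D) (hc : D.card = t.length + 1) : ∀ y ∈ D, ∃ k ∈ K, k b = y := by
  simp only [treeOK, Bool.and_eq_true, List.all_eq_true, Nat.blt_eq] at h
  obtain ⟨⟨-, hg⟩, hidx⟩ := h
  obtain ⟨O, hO, hO'⟩ := grow_spec (K := K) (b := b) t _ {b} hg (fun e he => hK e he (hidx e he))
    (fun x => by
      rw [show Nat.pow 2 (b : ℕ) = 2 ^ (b : ℕ) from rfl, Nat.testBit_two_pow, decide_eq_true_iff,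
        Finset.mem_singleton, Fin.ext_iff, eq_comm])
    (fun y hy => ⟨1, one_mem _, by rw [Finset.mem_singleton] at hy; rw [hy]; rfl⟩)
  have hsub : O ⊆ D := fun y hy => by
    obtain ⟨k, hk, rfl⟩ := hO' y hy
    exact hD k hk
  have : O = D := Finset.eq_of_subset_of_card_le hsub (by rw [hc, hO, Finset.card_singleton]; omega)
  exact fun y hy => hO' y (this ▸ hy)

theorem orbit_facts : (treeOK genT (p0 : ℕ) treeAll = true ∧ treeAll.length = 274) ∧
    (treeOK hT (c1 : ℕ) treeC = true ∧ treeC.length = 161) ∧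
    (treeOK (vals hT mProg) (b1 : ℕ) (mLev.getD 0 (0, [])).2 = true ∧ (mLev.getD 0 (0, [])).2.length = 111) ∧
    ((treeOK (vals hT mProg) 2 (mLev.getD 1 (0, [])).2 = true ∧ (mLev.getD 1 (0, [])).2.length = 80) ∧
      treeFix (vals hT mProg) (mLev.getD 1 (0, [])).2 1 = true ∧ nearB 2 = true ∧ rowB 1 2 = false) ∧
    (treeOK (vals hT mProg) z30 tree30 = true ∧ tree30.length = 29) ∧
      treeFix (vals hT mProg) tree30 1 = true ∧ nearB z30 = true ∧ rowB 1 z30 = true := by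
  have h := orbits_chk
  simp only [orbitsOK, Bool.and_eq_true, Nat.beq_eq, Bool.not_eq_true'] at h
  obtain ⟨⟨⟨⟨⟨⟨⟨⟨⟨⟨⟨⟨⟨⟨⟨t0, l0⟩, tC⟩, lC⟩, tB⟩, lB⟩, t2⟩, l2⟩, f2⟩, hn2⟩, ha2⟩, t30⟩, l30⟩, f30⟩,
    hn30⟩, ha30⟩ := h
  exact ⟨⟨t0, l0⟩, ⟨tC, lC⟩, ⟨tB, lB⟩, ⟨⟨t2, l2⟩, f2, hn2, ha2⟩, ⟨t30, l30⟩, f30, hn30, ha30⟩

theorem SS_trans (y : Pt) : ∃ g ∈ SS, g p0 = y := by
  have ht := orbit_facts.1
  have hl : genT.length = 4 := by
    have h' := h_chk
    simp only [hOK, Bool.and_eq_true, Nat.beq_eq] at h'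
    exact h'.1.1.1.2
  refine tree_orbit (K := SS) (D := Finset.univ) ht.1 (fun e _ he => ⟨_, ⟨CfsgLib.McLMult.X e.2, rfl⟩, fun x =>
    rho_apply (hl ▸ he) x⟩) (fun _ _ => Finset.mem_univ _) (by rw [ht.2]; rfl) y (Finset.mem_univ _)

theorem natCard_M0 : Nat.card ↥M0 = 3265920 := by
  have h : (stabilizer ↥SS p0).index = 275 := by
    rw [index_stabilizer, show orbit ↥SS p0 = Set.univ from Set.eq_univ_of_forall fun y => by
      obtain ⟨g, hg, e⟩ := SS_trans y
      exact ⟨⟨g, hg⟩, e⟩, Set.ncard_univ, Nat.card_fin]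
  have hc := (stabilizer ↥SS p0).card_mul_index
  rw [h, natCard_SS] at hc
  have e : Nat.card ↥(stabilizer ↥SS p0) = Nat.card ↥M0 := Nat.card_congr
    { toFun := fun g => ⟨g.1.1, g.1.2, g.2⟩
      invFun := fun g => ⟨⟨g.1, g.2.1⟩, g.2.2⟩
      left_inv := fun _ => rfl
      right_inv := fun _ => rfl }
  omega

theorem hg_top : Subgroup.closure (Set.range hg) = ⊤ :=
  CfsgLib.LeechIso.generate_of_chain hg_packed chain_chk natCard_M0.le

/-- the stabilizer is the unitary group -/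
theorem M0_equiv {K : Type} [Field K] [Fintype K] (hK : Fintype.card K = 9) :
    Nonempty (↥M0 ≃* PSU 4 K 3) := by
  obtain ⟨hM, hsimple, ψ, X, hX⟩ := model_u4 hK
  haveI := hsimple
  haveI : Finite (PSU 4 K 3) := Nat.finite_of_card_ne_zero (by rw [hM]; norm_num)
  obtain ⟨b, hb⟩ := CfsgLib.LeechIso.exists_words hX (show CfsgLib.LeechIso.U4.idx.length = 2 from rfl)
    CfsgLib.LeechIso.U4.words_chk
  exact CfsgLib.LeechIso.equiv_of_checks hg_packed hb hg_top
    (CfsgLib.LeechIso.generate_of_chain hb CfsgLib.LeechIso.U4.chainM_chk hM.le)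
    (natCard_M0.trans hM.symm) rel_chk

/-! ### Near and far points -/

/-- the near points -/
noncomputable def Bs : Finset Pt := Finset.univ.filter fun x => Adj p0 x

/-- the far points -/
noncomputable def Cs : Finset Pt := Finset.univ.filter fun x => x ≠ p0 ∧ ¬ Adj p0 x

theorem mem_Bs {x : Pt} : x ∈ Bs ↔ Adj p0 x := by simp [Bs]

theorem mem_Cs {x : Pt} : x ∈ Cs ↔ x ≠ p0 ∧ ¬ Adj p0 x := by simp [Cs]

theorem nearB_iff {x : ℕ} : nearB x = true ↔ 0 < x ∧ x < 113 := by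
  rw [nearB, band_eq_true, ltB_iff, ltB_iff]

theorem farB_iff {x : ℕ} : farB x = true ↔ 112 < x ∧ x < 275 := by
  rw [farB, band_eq_true, ltB_iff, ltB_iff]

theorem mem_Bs' {x : Pt} : x ∈ Bs ↔ nearB x = true := mem_Bs.trans (graph_spec x).2

theorem mem_Cs' {x : Pt} : x ∈ Cs ↔ farB x = true := by
  have hx := x.2
  rw [mem_Cs, (graph_spec x).2, nearB_iff, farB_iff, Ne, Fin.ext_iff]
  show (¬ (x : ℕ) = 0 ∧ _) ↔ _
  omega

theorem pt_cases (x : Pt) : x = p0 ∨ x ∈ Bs ∨ x ∈ Cs := by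
  rw [mem_Bs, mem_Cs]
  tauto

theorem card_filter_cnt (p : ℕ → Bool) : (Finset.univ.filter fun y : Pt => p y = true).card = cnt p := by
  rw [cnt, List.countP_eq_length_filter,
    ← List.toFinset_card_of_nodup (List.nodup_range.filter _)]
  refine Finset.card_bij (fun y _ => (y : ℕ)) (fun y hy => ?_) (fun a _ b _ e => Fin.ext e) fun n hn => ?_
  · simp only [Finset.mem_filter, Finset.mem_univ, true_and] at hy
    simp [hy]
  · simp only [List.mem_toFinset, List.mem_filter, List.mem_range] at hn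
    exact ⟨⟨n, hn.1⟩, by simp [hn.2], rfl⟩

theorem card_Bs : Bs.card = 112 := by
  rw [show Bs = Finset.univ.filter fun y : Pt => nearB y = true from Finset.ext fun y => by
    simp [mem_Bs'], card_filter_cnt]
  decide +kernel

theorem card_Cs : Cs.card = 162 := by
  rw [show Cs = Finset.univ.filter fun y : Pt => farB y = true from Finset.ext fun y => by
    simp [mem_Cs'], card_filter_cnt]
  decide +kernel

theorem p0_notMem : p0 ∉ Bs ∧ p0 ∉ Cs := by
  rw [mem_Bs, mem_Cs]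
  exact ⟨(graph_spec p0).1, fun h => h.1 rfl⟩

theorem smul_Bs (m : ↥M0) {x : Pt} : m • x ∈ Bs ↔ x ∈ Bs := by
  rw [mem_Bs, mem_Bs]
  conv_lhs => rw [← m0_fix m]
  exact adj_m m p0 x

theorem smul_Cs (m : ↥M0) {x : Pt} : m • x ∈ Cs ↔ x ∈ Cs := by
  rw [mem_Cs, mem_Cs, ← mem_Bs, ← mem_Bs, smul_Bs, Ne, Ne]
  conv_lhs => rw [← m0_fix m]
  rw [smul_left_cancel_iff]

theorem b1_mem : b1 ∈ Bs := mem_Bs'.2 (by decide +kernel)

theorem c1_mem : c1 ∈ Cs := mem_Cs'.2 (by decide +kernel)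

theorem mem_Bs_iff (y : Pt) : y ∈ Bs ↔ ∃ m : ↥M0, m • b1 = y := by
  refine ⟨fun hy => ?_, fun ⟨m, e⟩ => e ▸ (smul_Bs m).2 b1_mem⟩
  have h := orbit_facts.2.2.1
  obtain ⟨k, hk, e⟩ := tree_orbit (K := M0) (b := b1) (D := Bs)
    h.1 (fun e _ he => by
      obtain ⟨m, hm⟩ := exists_mel _ he
      exact ⟨m, m.2, hm⟩) (fun k hk => (smul_Bs ⟨k, hk⟩).2 b1_mem)
    (by rw [card_Bs, h.2]) y hy
  exact ⟨⟨k, hk⟩, e⟩

theorem mem_Cs_iff (y : Pt) : y ∈ Cs ↔ ∃ m : ↥M0, m • c1 = y := by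
  refine ⟨fun hy => ?_, fun ⟨m, e⟩ => e ▸ (smul_Cs m).2 c1_mem⟩
  have h := orbit_facts.2.1
  obtain ⟨k, hk, e⟩ := tree_orbit (K := M0) (b := c1) (D := Cs)
    h.1 (fun e _ he => ⟨hg ⟨e.2, hT_len ▸ he⟩, (hg _).2, fun x =>
      hg_packed.2 ⟨e.2, hT_len ▸ he⟩ x⟩) (fun k hk => (smul_Cs ⟨k, hk⟩).2 c1_mem)
    (by rw [card_Cs, h.2]) y hy
  exact ⟨⟨k, hk⟩, e⟩

/-- the near neighbours of the first near point -/
noncomputable def N1 : Finset Pt := Bs.filter fun y => Adj b1 y

/-- the other near points -/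
noncomputable def N2 : Finset Pt := Bs.filter fun y => y ≠ b1 ∧ ¬ Adj b1 y

theorem card_N1 : N1.card = 30 := by
  rw [show N1 = Finset.univ.filter fun y : Pt => band (nearB y) (rowB b1 y) = true from Finset.ext fun y => by
    simp only [N1, Finset.mem_filter, Finset.mem_univ, true_and, mem_Bs', band_eq_true]; rfl,
    card_filter_cnt fun z => band (nearB z) (rowB b1 z)]
  have h := near_chk
  simp only [nearOK, Bool.and_eq_true, Nat.beq_eq] at h
  exact h.1.1

theorem card_N2 : N2.card = 81 := by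
  have e : Bs = insert b1 (N1 ∪ N2) := by
    ext y
    simp only [N1, N2, Finset.mem_insert, Finset.mem_union, Finset.mem_filter]
    constructor
    · intro hy; tauto
    · rintro (rfl | h | h)
      exacts [b1_mem, h.1, h.1]
  have h := congrArg Finset.card e
  rw [card_Bs, Finset.card_insert_of_notMem, Finset.card_union_of_disjoint, card_N1] at h
  · omega
  · exact Finset.disjoint_left.2 fun y h1 h2 => (Finset.mem_filter.1 h2).2.2 (Finset.mem_filter.1 h1).2
  · simp only [N1, N2, Finset.mem_union, Finset.mem_filter, not_or]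
    exact ⟨fun h => (graph_spec b1).1 h.2, fun h => h.2.1 rfl⟩

theorem smul_N1 {m : ↥M0} (hm : m • b1 = b1) {x : Pt} : m • x ∈ N1 ↔ x ∈ N1 := by
  simp only [N1, Finset.mem_filter, smul_Bs]
  conv_lhs => rw [← hm, adj_m]

theorem smul_N2 {m : ↥M0} (hm : m • b1 = b1) {x : Pt} : m • x ∈ N2 ↔ x ∈ N2 := by
  simp only [N2, Finset.mem_filter, smul_Bs]
  conv_lhs => rw [← hm, adj_m, Ne, smul_left_cancel_iff]

theorem N_trans {y z : Pt} (h : (y ∈ N1 ∧ z ∈ N1) ∨ (y ∈ N2 ∧ z ∈ N2)) :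
    ∃ m : ↥M0, m • b1 = b1 ∧ m • y = z := by
  obtain ⟨⟨⟨t2, l2⟩, f2, hn2, ha2⟩, ⟨t30, l30⟩, f30, hn30, ha30⟩ := orbit_facts.2.2.2
  let K : Subgroup (Equiv.Perm Pt) := M0 ⊓ stabilizer (Equiv.Perm Pt) b1
  have hel : ∀ {t : List (ℕ × ℕ)}, treeFix (vals hT mProg) t 1 = true → ∀ e ∈ t,
      e.2 < (vals hT mProg).length → ∃ σ ∈ K, ∀ x : Pt, (σ x : ℕ) = pk (nth (vals hT mProg) e.2 0) x := by
    intro t ht e he hl
    obtain ⟨m, hm⟩ := exists_mel _ hl
    simp only [treeFix, List.all_eq_true, Nat.beq_eq] at ht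
    exact ⟨m, ⟨m.2, Fin.ext ((hm b1).trans (ht e he))⟩, hm⟩
  have key : ∀ (b : Pt) (D : Finset Pt), (∀ y ∈ D, ∃ k ∈ K, k b = y) → ∀ y ∈ D, ∀ z ∈ D,
      ∃ m : ↥M0, m • b1 = b1 ∧ m • y = z := by
    intro b D hD y hy z hz
    obtain ⟨k, hk, rfl⟩ := hD y hy
    obtain ⟨l, hl, rfl⟩ := hD z hz
    have hm : l * k⁻¹ ∈ K := mul_mem hl (inv_mem hk)
    exact ⟨⟨l * k⁻¹, hm.1⟩, hm.2, by simp [smul_eq]⟩
  have hz : z30 < 275 := by have := (nearB_iff.1 hn30).2; omega
  rcases h with ⟨hy, hz'⟩ | ⟨hy, hz'⟩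
  · refine key ⟨z30, hz⟩ N1 (tree_orbit t30 (hel f30) (fun k hk => ?_) (by rw [card_N1, l30])) y hy z hz'
    exact (smul_N1 (m := ⟨k, hk.1⟩) hk.2).2 (Finset.mem_filter.2 ⟨mem_Bs'.2 hn30, ha30⟩)
  · refine key (2 : Pt) N2 (tree_orbit t2 (hel f2) (fun k hk => ?_) (by rw [card_N2, l2])) y hy z hz'
    refine (smul_N2 (m := ⟨k, hk.1⟩) hk.2).2 (Finset.mem_filter.2 ⟨mem_Bs'.2 hn2, by decide, ?_⟩)
    exact fun h => Bool.false_ne_true (ha2.symm.trans h)

/-- the near common neighbours -/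
noncomputable def com (x y : Pt) : Finset Pt := Bs.filter fun z => Adj x z ∧ Adj y z

theorem card_com (x y : Pt) : (com x y).card = comB x y := by
  rw [show com x y = Finset.univ.filter fun z : Pt =>
      band (nearB z) (band (Nat.testBit (nth rows x 0) z) (Nat.testBit (nth rows y 0) z)) = true from
    Finset.ext fun z => by simp only [com, Finset.mem_filter, Finset.mem_univ, true_and, mem_Bs', band_eq_true]; rfl,
    card_filter_cnt fun z => band (nearB z) (band (Nat.testBit (nth rows x 0) z) (Nat.testBit (nth rows y 0) z)),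
    comB, strict_eq, strict_eq]

theorem com_N1 {z : Pt} (hz : z ∈ N1) : (com b1 z).card = 2 := by
  simp only [N1, Finset.mem_filter, mem_Bs'] at hz
  have h := near_chk
  simp only [nearOK, Bool.and_eq_true, List.all_eq_true, List.mem_range, Bool.or_eq_true, Nat.beq_eq,
    Bool.not_eq_true'] at h
  rw [card_com]
  rcases h.2 z z.2 with h' | h'
  · have e : band (nearB (z : ℕ)) (rowB 1 (z : ℕ)) = true := band_eq_true.2 ⟨hz.1, hz.2⟩
    rw [e] at h'; exact absurd h' Bool.noConfusion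
  · exact h'

theorem card_far : (Bs.filter fun z => Adj c1 z).card = 56 ∧ (Cs.filter fun z => Adj c1 z).card = 56 := by
  have h := far_chk
  simp only [farOK, Bool.and_eq_true, Nat.beq_eq] at h
  constructor
  · rw [show (Bs.filter fun z => Adj c1 z) = Finset.univ.filter fun y : Pt => band (nearB y) (rowB c1 y) = true
      from Finset.ext fun y => by simp only [Finset.mem_filter, Finset.mem_univ, true_and, mem_Bs', band_eq_true]; rfl,
      card_filter_cnt fun z => band (nearB z) (rowB c1 z)]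
    exact h.1.1
  · rw [show (Cs.filter fun z => Adj c1 z) = Finset.univ.filter fun y : Pt => band (farB y) (rowB c1 y) = true
      from Finset.ext fun y => by simp only [Finset.mem_filter, Finset.mem_univ, true_and, mem_Cs', band_eq_true]; rfl,
      card_filter_cnt fun z => band (farB z) (rowB c1 z)]
    exact h.1.2

theorem com_far {c : Pt} (hc : c ∈ Cs) (hne : c ≠ c1) :
    (Adj c1 c → (com c1 c).card = 20) ∧ (¬ Adj c1 c → (com c1 c).card = 32) := by
  have h := far_chk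
  simp only [farOK, Bool.and_eq_true, List.all_eq_true, List.mem_range, Bool.or_eq_true, Nat.beq_eq,
    Bool.not_eq_true'] at h
  rw [mem_Cs'] at hc
  rcases h.2 c c.2 with (h' | h') | h'
  · rw [hc] at h'; exact absurd h' Bool.noConfusion
  · exact absurd (Fin.ext h') hne
  · rw [card_com, show comB c1 c = _ from h']
    exact ⟨fun ha => if_pos ha, fun ha => if_neg ha⟩

theorem nc_c1 {c : Pt} (hc : c ∈ Cs) (h : ∀ z ∈ Bs, Adj c z ↔ Adj c1 z) : c = c1 := by
  by_contra hne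
  have e : com c1 c = Bs.filter fun z => Adj c1 z := Finset.ext fun z => by
    simp only [com, Finset.mem_filter]
    exact ⟨fun ⟨a, b, _⟩ => ⟨a, b⟩, fun ⟨a, b⟩ => ⟨a, b, (h z a).2 b⟩⟩
  have h56 := card_far.1
  rw [← e] at h56
  by_cases ha : Adj c1 c
  · have := (com_far hc hne).1 ha; omega
  · have := (com_far hc hne).2 ha; omega

/-- far points are determined by their near neighbours -/
theorem nc_inj {c c' : Pt} (hc : c ∈ Cs) (hc' : c' ∈ Cs) (h : ∀ z ∈ Bs, Adj c z ↔ Adj c' z) : c = c' := by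
  obtain ⟨m, rfl⟩ := (mem_Cs_iff c').1 hc'
  rw [show c = m • (m⁻¹ • c) from (smul_inv_smul m c).symm]
  refine congrArg (m • ·) (nc_c1 ((smul_Cs _).2 hc) fun z hz => ?_)
  rw [← adj_m m (m⁻¹ • c) z, ← adj_m m c1 z, smul_inv_smul]
  exact h _ ((smul_Bs m).2 hz)

end CfsgLib.McLRec
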