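import Cfsg.Agent.Lib.McLRec.Aut

/-!
Subgroups of order 29160 and elements of order seven in the stabilizer.
-/

set_option autoImplicit false
set_option maxRecDepth 30000

namespace CfsgLib.McLRec

open Cfsg CfsgLib.CosetEnum MulAction
open scoped Pointwise

attribute [local irreducible] rows hT

theorem exists_conj_mem {G : Type*} [Group G] [Finite G] {p : ℕ} [Fact p.Prime] {P L : Subgroup G}
    (hP : IsPGroup p P) (hL : (Nat.card ↥L).factorization p = (Nat.card G).factorization p) :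
    ∃ g : G, ∀ x ∈ P, g * x * g⁻¹ ∈ L := by
  obtain ⟨Q⟩ : Nonempty (Sylow p ↥L) := inferInstance
  obtain ⟨P0, hP0⟩ := hP.exists_le_sylow
  have hQ : Nat.card ↥((Q : Subgroup ↥L).map L.subtype) = p ^ (Nat.card G).factorization p := by
    rw [← Nat.card_congr ((Q : Subgroup ↥L).equivMapOfInjective _ L.subtype_injective).toEquiv,
      Q.card_eq_multiplicity, hL]
  obtain ⟨g, hg⟩ := exists_smul_eq G P0 (Sylow.ofCard _ hQ)
  refine ⟨g, fun x hx => ?_⟩
  have hm : g * x * g⁻¹ ∈ (g • P0 : Sylow p G).toSubgroup := by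
    rw [Sylow.coe_subgroup_smul, Subgroup.mem_pointwise_smul_iff_inv_smul_mem]
    have e : (MulAut.conj g)⁻¹ • (g * x * g⁻¹) = x := by simp [MulAut.smul_def]; group
    rw [e]; exact hP0 hx
  rw [hg] at hm
  obtain ⟨q, -, hq⟩ := hm
  rw [← hq]; exact q.2

theorem fac_eq {p k n m : ℕ} (hp : p.Prime) (hn : n ≠ 0) (hm : m ≠ 0) (h1 : p ^ k ∣ n)
    (h2 : ¬ p ^ (k + 1) ∣ n) (h3 : p ^ k ∣ m) (h4 : ¬ p ^ (k + 1) ∣ m) :
    n.factorization p = m.factorization p := by
  rw [hp.pow_dvd_iff_le_factorization hn] at h1 h2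
  rw [hp.pow_dvd_iff_le_factorization hm] at h3 h4
  omega

theorem card_stab_b1 : Nat.card ↥(stabilizer ↥M0 b1) = 29160 := by
  have h := (stabilizer ↥M0 b1).card_mul_index
  rw [index_stabilizer, show orbit ↥M0 b1 = ↑Bs from Set.ext fun y => (mem_Bs_iff y).symm,
    Set.ncard_coe_finset, card_Bs, natCard_M0] at h
  omega

theorem card_stab_two {N : Finset Pt} (hsub : ∀ m : ↥M0, m • b1 = b1 → ∀ {x : Pt}, m • x ∈ N ↔ x ∈ N)
    (htr : ∀ {y z : Pt}, y ∈ N → z ∈ N → ∃ m : ↥M0, m • b1 = b1 ∧ m • y = z) {z : Pt} (hz : z ∈ N) :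
    Nat.card ↥(stabilizer ↥(stabilizer ↥M0 b1) z) * N.card = 29160 := by
  have h := (stabilizer ↥(stabilizer ↥M0 b1) z).card_mul_index
  rw [index_stabilizer, show orbit ↥(stabilizer ↥M0 b1) z = ↑N from Set.ext fun y => by
    constructor
    · rintro ⟨m, rfl⟩; exact (hsub m.1 m.2).2 hz
    · intro hy
      obtain ⟨m, h1, h2⟩ := htr hz hy
      exact ⟨⟨m, h1⟩, h2⟩, Set.ncard_coe_finset, card_stab_b1] at h
  exact h

/-- the elements fixing the first near point and another one -/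
noncomputable def two (z : Pt) : Subgroup ↥M0 := stabilizer ↥M0 b1 ⊓ stabilizer ↥M0 z

theorem card_two (z : Pt) : Nat.card ↥(two z) = Nat.card ↥(stabilizer ↥(stabilizer ↥M0 b1) z) :=
  Nat.card_congr
    { toFun := fun g => ⟨⟨g.1, g.2.1⟩, g.2.2⟩
      invFun := fun g => ⟨g.1.1, g.1.2, g.2⟩
      left_inv := fun _ => rfl
      right_inv := fun _ => rfl }

theorem card_two_N1 {z : Pt} (hz : z ∈ N1) : Nat.card ↥(two z) = 972 := by
  have h := card_stab_two (N := N1) (fun m hm => smul_N1 hm) (fun hy hz => N_trans (Or.inl ⟨hy, hz⟩)) hz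
  rw [card_N1] at h
  rw [card_two]; omega

theorem card_two_N2 {z : Pt} (hz : z ∈ N2) : Nat.card ↥(two z) = 360 := by
  have h := card_stab_two (N := N2) (fun m hm => smul_N2 hm) (fun hy hz => N_trans (Or.inr ⟨hy, hz⟩)) hz
  rw [card_N2] at h
  rw [card_two]; omega

/-- A subgroup of order 29160 fixes a near point. -/
theorem index112 (L : Subgroup ↥M0) (hL : Nat.card ↥L = 29160) : ∃ z ∈ Bs, L = stabilizer ↥M0 z := by
  classical
  haveI : Fact (Nat.Prime 3) := ⟨Nat.prime_three⟩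
  obtain ⟨Q⟩ : Nonempty (Sylow 3 ↥(stabilizer ↥M0 b1)) := inferInstance
  set P := (Q : Subgroup ↥(stabilizer ↥M0 b1)).map (stabilizer ↥M0 b1).subtype
  have hfac : (29160 : ℕ).factorization 3 = 6 := by
    rw [Nat.factorization_def _ Nat.prime_three, show (29160 : ℕ) = 3 ^ 6 * 40 by norm_num,
      padicValNat.mul (by norm_num) (by norm_num), padicValNat.prime_pow,
      padicValNat.eq_zero_of_not_dvd (by norm_num)]
  have hPc : Nat.card ↥P = 729 := by
    rw [← Nat.card_congr ((Q : Subgroup ↥(stabilizer ↥M0 b1)).equivMapOfInjective _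
      (stabilizer ↥M0 b1).subtype_injective).toEquiv, Q.card_eq_multiplicity, card_stab_b1, hfac]
    norm_num
  have hPp : IsPGroup 3 ↥P := IsPGroup.of_card (n := 6) (by rw [hPc]; norm_num)
  have hPb : ∀ x ∈ P, x • b1 = b1 := by rintro _ ⟨q, -, rfl⟩; exact q.2
  obtain ⟨g, hg⟩ := exists_conj_mem hPp (L := L)
    (by
      rw [hL, natCard_M0]
      exact fac_eq Nat.prime_three (k := 6) (by norm_num) (by norm_num) (by norm_num) (by norm_num) (by norm_num)
        (by norm_num))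
  set L' := L.map (MulAut.conj g⁻¹).toMonoidHom with hL'
  have hcL' : Nat.card ↥L' = 29160 := by
    rw [← hL]
    exact (Nat.card_congr (L.equivMapOfInjective _ (MulAut.conj g⁻¹).injective).toEquiv).symm
  have hPL : P ≤ L' := fun x hx => ⟨_, hg x hx, by simp [MulAut.conj_apply]; group⟩
  suffices hfix : ∀ l ∈ L', l • b1 = b1 by
    have heq : L' = stabilizer ↥M0 b1 :=
      Subgroup.eq_of_le_of_card_ge (fun l hl => hfix l hl) (by rw [hcL', card_stab_b1])
    refine ⟨g • b1, (smul_Bs g).2 b1_mem, ?_⟩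
    ext l
    have : l ∈ L ↔ g⁻¹ * l * g ∈ L' := by
      rw [hL', Subgroup.mem_map]
      constructor
      · intro h; exact ⟨l, h, by simp [MulAut.conj_apply]⟩
      · rintro ⟨k, hk, e⟩
        have : k = l := by simpa [MulAut.conj_apply] using e
        exact this ▸ hk
    rw [this, heq, mem_stabilizer_iff, mem_stabilizer_iff, mul_smul, mul_smul, inv_smul_eq_iff]
  set O := orbit ↥L' b1 with hO
  have hOB : ∀ y ∈ O, y ∈ Bs := by rintro _ ⟨l, rfl⟩; exact (smul_Bs l.1).2 b1_mem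
  have hs : O.ncard ∣ 40 := by
    have h := (stabilizer ↥L' b1).card_mul_index
    rw [index_stabilizer, hcL'] at h
    have h729 : 729 ∣ Nat.card ↥(stabilizer ↥L' b1) := by
      rw [← hPc]
      exact Subgroup.card_dvd_of_injective
        (⟨⟨fun x => ⟨⟨x.1, hPL x.2⟩, hPb x.1 x.2⟩, rfl⟩, fun _ _ => rfl⟩ : ↥P →* ↥(stabilizer ↥L' b1))
        (fun a b e => Subtype.ext (congrArg (fun z => (z.1.1 : ↥M0)) e))
    obtain ⟨c, hc⟩ := h729
    exact ⟨c, by rw [hO]; nlinarith⟩
  have hPO : ∀ z : Pt, Nat.card ↥(stabilizer ↥P z) * (orbit ↥P z).ncard = 729 := fun z => by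
    rw [← index_stabilizer, Subgroup.card_mul_index, hPc]
  have hPz : ∀ z : Pt, Nat.card ↥(stabilizer ↥P z) ∣ Nat.card ↥(two z) := fun z =>
    Subgroup.card_dvd_of_injective
      (⟨⟨fun x => ⟨x.1.1, hPb _ x.1.2, x.2⟩, rfl⟩, fun _ _ => rfl⟩ : ↥(stabilizer ↥P z) →* ↥(two z))
      (fun a b e => Subtype.ext (Subtype.ext (congrArg (fun w => (w.1 : ↥M0)) e)))
  have hsub : ∀ z, z ∈ O → orbit ↥P z ⊆ O := by
    rintro _ ⟨l, rfl⟩ _ ⟨x, rfl⟩
    exact ⟨⟨x.1, hPL x.2⟩ * l, mul_smul _ _ _⟩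
  have hd729 : ∀ z : Pt, Nat.card ↥(stabilizer ↥P z) ∣ 729 := fun z => Dvd.intro _ (hPO z)
  have hN : ∀ z ∈ O, z ≠ b1 → z ∈ N1 := by
    intro z hz hne
    by_contra h1
    have h2 : z ∈ N2 := Finset.mem_filter.2 ⟨hOB z hz, hne, fun h => h1 (Finset.mem_filter.2 ⟨hOB z hz, h⟩)⟩
    have h9 : Nat.card ↥(stabilizer ↥P z) ∣ 9 := by
      have := Nat.dvd_gcd (card_two_N2 h2 ▸ hPz z) (hd729 z)
      exact this.trans (by decide +kernel)
    have hle := Nat.le_of_dvd (by norm_num) h9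
    have h81 : 81 ≤ (orbit ↥P z).ncard := by
      have := hPO z
      nlinarith
    have h40 := Nat.le_of_dvd (by norm_num) hs
    have := Set.ncard_le_ncard (hsub z hz) (Set.toFinite _)
    omega
  have hfx : ∀ z ∈ O, (∀ x : ↥P, x • z = z) → z = b1 := by
    intro z hz hfix
    by_contra hne
    have h := card_two_N1 (hN z hz hne) ▸ hPz z
    have e : orbit ↥P z = {z} := Set.ext fun y => ⟨fun ⟨x, hx⟩ => by simp [← hx, hfix x],
      fun hy => by rw [Set.mem_singleton_iff.1 hy]; exact mem_orbit_self z⟩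
    have := hPO z
    rw [e, Set.ncard_singleton, mul_one] at this
    rw [this] at h
    norm_num at h
  have hmod : O.ncard % 3 = 1 := by
    have h := ((hPp.to_subgroup ⊤).map (Subgroup.inclusion hPL)).card_modEq_card_fixedPoints ↥O
    have e : Nat.card ↥(fixedPoints ↥(((⊤ : Subgroup ↥P)).map (Subgroup.inclusion hPL)) ↥O) = 1 := by
      rw [Nat.card_eq_one_iff_unique]
      refine ⟨⟨fun a b => ?_⟩, ⟨⟨⟨b1, mem_orbit_self _⟩, fun x => Subtype.ext ?_⟩⟩⟩
      · have key : ∀ w : ↥(fixedPoints ↥(((⊤ : Subgroup ↥P)).map (Subgroup.inclusion hPL)) ↥O), (w.1 : Pt) = b1 :=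
          fun w => hfx _ w.1.2 fun x => congrArg Subtype.val (w.2 ⟨_, ⟨x, Subgroup.mem_top _, rfl⟩⟩)
        exact Subtype.ext (Subtype.ext ((key a).trans (key b).symm))
      · obtain ⟨q, -, hq⟩ := x.2
        show (x.1 : ↥M0) • b1 = b1
        rw [← hq]
        exact hPb _ q.2
    rw [e] at h
    rw [← Nat.card_coe_set_eq]
    exact h
  have hclique : ∀ x ∈ O, ∀ y ∈ O, x ≠ y → Adj x y := by
    rintro _ ⟨l, rfl⟩ y hy hne
    have hy' : l⁻¹ • y ∈ O := by
      obtain ⟨k, rfl⟩ := hy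
      exact ⟨l⁻¹ * k, mul_smul _ _ _⟩
    have := (Finset.mem_filter.1 (hN _ hy' fun e => hne (show l • b1 = y by rw [← e, smul_inv_smul]))).2
    rw [← adj_m l.1] at this
    have e : l.1 • (l⁻¹ • y) = y := smul_inv_smul l y
    rwa [e] at this
  have hcases : O.ncard = 1 ∨ (2 ≤ O.ncard ∧ O.ncard ≤ 4) := by
    rcases Nat.lt_or_ge O.ncard 2 with h | h
    · exact Or.inl (by omega)
    refine Or.inr ⟨h, ?_⟩
    obtain ⟨z, hz, hzne⟩ := Set.exists_ne_of_one_lt_ncard h b1
    have hT : O ⊆ ↑(insert b1 (insert z (com b1 z))) := fun w hw => by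
      rw [Finset.coe_insert, Finset.coe_insert, Set.mem_insert_iff, Set.mem_insert_iff, Finset.mem_coe]
      by_cases h1 : w = b1
      · exact Or.inl h1
      by_cases h2 : w = z
      · exact Or.inr (Or.inl h2)
      exact Or.inr (Or.inr (Finset.mem_filter.2 ⟨hOB w hw, hclique b1 (mem_orbit_self _) w hw (Ne.symm h1),
        hclique z hz w hw (Ne.symm h2)⟩))
    refine (Set.ncard_le_ncard hT (Finset.finite_toSet _)).trans ?_
    rw [Set.ncard_coe_finset]
    refine (Finset.card_insert_le _ _).trans ?_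
    have := Finset.card_insert_le z (com b1 z)
    have := com_N1 (hN z hz hzne)
    omega
  have h1 : O.ncard = 1 := by
    rcases hcases with h | ⟨h2, h4⟩
    · exact h
    exfalso
    haveI : Fact (Nat.Prime 5) := ⟨by norm_num⟩
    obtain ⟨y, hy⟩ := exists_prime_orderOf_dvd_card' 5 (show 5 ∣ Nat.card ↥L' by rw [hcL']; norm_num)
    have hfix : ∀ z ∈ O, y • z = z := by
      intro z hz
      have hp := hy ▸ Nat.card_zpowers y
      have hi := (stabilizer ↥(Subgroup.zpowers y) z).card_mul_index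
      rw [index_stabilizer, hp] at hi
      have hle : (orbit ↥(Subgroup.zpowers y) z).ncard ≤ 4 :=
        (Set.ncard_le_ncard (by
          rintro _ ⟨k, rfl⟩
          obtain ⟨l, rfl⟩ := hz
          exact ⟨k.1 * l, mul_smul _ _ _⟩) (Set.toFinite _)).trans h4
      have hd : (orbit ↥(Subgroup.zpowers y) z).ncard ∣ 5 := Dvd.intro_left _ hi
      rcases (Nat.prime_five.eq_one_or_self_of_dvd _ hd) with h | h
      · obtain ⟨w, hw⟩ := Set.ncard_eq_one.1 h
        have e1 : z = w := by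
          have := mem_orbit_self (M := ↥(Subgroup.zpowers y)) z
          rwa [hw] at this
        have e2 : (⟨y, Subgroup.mem_zpowers y⟩ : ↥(Subgroup.zpowers y)) • z = w := by
          have := mem_orbit z (⟨y, Subgroup.mem_zpowers y⟩ : ↥(Subgroup.zpowers y))
          rwa [hw] at this
        exact e2.trans e1.symm
      · omega
    obtain ⟨z, hz, hzne⟩ := Set.exists_ne_of_one_lt_ncard h2 b1
    have hmem : (y : ↥M0) ∈ two z := ⟨hfix b1 (mem_orbit_self _), hfix z hz⟩
    have h5 : orderOf (⟨(y : ↥M0), hmem⟩ : ↥(two z)) = 5 := by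
      rw [Subgroup.orderOf_mk, Subgroup.orderOf_coe, hy]
    have := h5 ▸ orderOf_dvd_natCard (⟨(y : ↥M0), hmem⟩ : ↥(two z))
    rw [card_two_N1 (hN z hz hzne)] at this
    norm_num at this
  intro l hl
  obtain ⟨w, hw⟩ := Set.ncard_eq_one.1 h1
  have e1 : (⟨l, hl⟩ : ↥L') • b1 ∈ O := mem_orbit _ _
  have e2 : b1 ∈ O := mem_orbit_self _
  rw [hw, Set.mem_singleton_iff] at e1 e2
  exact e1.trans e2.symm

/-- the element of order seven -/
noncomputable def x7 : ↥M0 := hg 1

theorem x7_it (n : ℕ) (x : Pt) : ((x7 ^ n • x : Pt) : ℕ) = itP (CfsgLib.CosetEnum.nth hT 1 0) n x := by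
  induction n with
  | zero => simp [itP]
  | succ n ih =>
    rw [pow_succ', mul_smul, itP, ← ih]
    exact hg_packed.2 1 _

theorem x7_facts : x7 • c1 = c1 ∧ orderOf x7 = 7 := by
  have h := seven_chk
  simp only [sevenOK, Bool.and_eq_true, List.all_eq_true, List.mem_range, Nat.beq_eq, Bool.not_eq_true'] at h
  obtain ⟨⟨h7, hc⟩, hb⟩ := h
  haveI : Fact (Nat.Prime 7) := ⟨by norm_num⟩
  refine ⟨Fin.ext ((hg_packed.2 1 c1).trans hc), orderOf_eq_prime ?_ fun e => ?_⟩
  · refine Subtype.ext (Equiv.ext fun x => Fin.ext ?_)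
    show ((x7 ^ 7 • x : Pt) : ℕ) = (x : ℕ)
    rw [x7_it]
    exact h7 x x.2
  · have := x7_it 1 b1
    rw [pow_one, e, one_smul] at this
    rw [Bool.eq_false_iff] at hb
    exact hb (by rw [Nat.beq_eq]; exact this.symm) |>.elim

theorem exists_x7 (L : Subgroup ↥M0) (hL : Nat.card ↥L = 20160) : ∃ g : ↥M0, g * x7 * g⁻¹ ∈ L := by
  haveI : Fact (Nat.Prime 7) := ⟨by norm_num⟩
  obtain ⟨g, hg'⟩ := exists_conj_mem (P := Subgroup.zpowers x7) (L := L)
    (IsPGroup.of_card (p := 7) (n := 1) (by rw [Nat.card_zpowers, x7_facts.2]; rfl))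
    (by
      rw [hL, natCard_M0]
      exact fac_eq (p := 7) (k := 1) (by norm_num) (by norm_num) (by norm_num) (by norm_num) (by norm_num) (by norm_num)
        (by norm_num))
  exact ⟨g, hg' _ (Subgroup.mem_zpowers x7)⟩

end CfsgLib.McLRec
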